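import Cfsg.Agent.H103.OT.SubF
import Cfsg.Agent.H428.OT.LTC
import Cfsg.Agent.H175.OT.P
import Cfsg.Agent.H186.OT.Emp
import Cfsg.Agent.H893.OT.KPrime
import Cfsg.Agent.H460.OT.Short

/-!
# S2539, part 5, `S_F = {±s}`: the conjugates of the generators of the one-parameter tori in `M_F` (helper876)

* `sq_G2` : an isometry of the roots of `G₂` preserving `{±s}` has square 1;
* `ns_pm` : `g ∉ M`, `h_r(γ) ^ g ∈ M` implies `h_r(γ)² ∈ Z(F)`.
-/

set_option autoImplicit false
set_option linter.unusedSectionVars false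

namespace Cfsg.Agent.H876.OT.Ns

open Subgroup Cfsg Cfsg.Lie Cfsg.Agent.H412.OT Cfsg.Agent.H186.OT Cfsg.Agent.H274.OT Cfsg.Agent.H103.OT
open Cfsg.Agent.ChevalleyStructure Cfsg.Agent.ChevalleyStructure.Elts Cfsg.Agent.ChevalleyStructure.NPerm
open Cfsg.Agent.ChevalleyStructure.RootCombBase (allLt allLt_spec)
open Cfsg.Agent.H460.OT.Short (pT pG chkP_G2 p_spec bq inG nG)

universe u

section G2

/-- at most two roots have the same Cartan numbers with a given root -/
def c1 : Bool := allLt (fun s => allLt (fun x => allLt (fun y =>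
  or (not (Nat.beq (pT pG 12 s y) (pT pG 12 s x))) (or (not (Nat.beq (pT pG 12 y s) (pT pG 12 x s))) (or (Nat.beq y x)
  (allLt (fun z => or (not (Nat.beq (pT pG 12 s z) (pT pG 12 s x))) (or (not (Nat.beq (pT pG 12 z s) (pT pG 12 x s)))
    (or (Nat.beq z x) (Nat.beq z y)))) 12)))) 12) 12) 12

theorem c1_ok : c1 = true := by decide +kernel

theorem same {s x y z : ℕ} (hs : s < 12) (hx : x < 12) (hy : y < 12) (hz : z < 12)
    (h1 : pr chevG2 s y = pr chevG2 s x) (h2 : pr chevG2 y s = pr chevG2 x s)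
    (h3 : pr chevG2 s z = pr chevG2 s x) (h4 : pr chevG2 z s = pr chevG2 x s) : y = x ∨ z = x ∨ z = y := by
  have e : ∀ {a b : ℕ}, a < 12 → b < 12 → ((pT pG 12 a b : ℕ) : ℤ) = pr chevG2 a b + 3 := fun ha hb => by
    have := p_spec chkP_G2 ha hb
    omega
  have h5 := allLt_spec (allLt_spec (allLt_spec c1_ok s hs) x hx) y hy
  simp only [Bool.or_eq_true, Bool.not_eq_true', ← Bool.not_eq_true, bq] at h5
  have n1 : pT pG 12 s y = pT pG 12 s x := by
    have a1 := e hs hy
    have a2 := e hs hx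
    omega
  have n2 : pT pG 12 y s = pT pG 12 x s := by
    have a1 := e hy hs
    have a2 := e hx hs
    omega
  rcases h5 with h5 | h5 | h5 | h5
  · exact absurd n1 h5
  · exact absurd n2 h5
  · exact Or.inl h5
  · have h6 := allLt_spec h5 z hz
    simp only [Bool.or_eq_true, Bool.not_eq_true', ← Bool.not_eq_true, bq] at h6
    have n3 : pT pG 12 s z = pT pG 12 s x := by
      have a1 := e hs hz
      have a2 := e hs hx
      omega
    have n4 : pT pG 12 z s = pT pG 12 x s := by
      have a1 := e hz hs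
      have a2 := e hx hs
      omega
    rcases h6 with h6 | h6 | h6 | h6
    · exact absurd n3 h6
    · exact absurd n4 h6
    · exact Or.inr (Or.inl h6)
    · exact Or.inr (Or.inr h6)

/-- an isometry fixing a root has square 1 -/
theorem sq_fix {w : Equiv.Perm (Fin chevG2.nroots)}
    (hw : ∀ r s : Fin chevG2.nroots, pr chevG2 (w r) (w s) = pr chevG2 r s) {s : Fin chevG2.nroots} (hs : w s = s)
    (x : Fin chevG2.nroots) : w (w x) = x := by
  have lt : ∀ x : Fin chevG2.nroots, (x : ℕ) < 12 := fun x => nG ▸ x.2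
  have a1 : ∀ x, pr chevG2 s (w x) = pr chevG2 s x := fun x => by
    have := hw s x
    rwa [hs] at this
  have a2 : ∀ x, pr chevG2 (w x) s = pr chevG2 x s := fun x => by
    have := hw x s
    rwa [hs] at this
  rcases same (lt s) (lt x) (lt (w x)) (lt (w (w x))) (a1 x) (a2 x) ((a1 _).trans (a1 x)) ((a2 _).trans (a2 x))
    with h | h | h
  · have h1 : w x = x := Fin.ext h
    rw [h1, h1]
  · exact Fin.ext h
  · have h1 : w (w x) = w x := Fin.ext h
    have h2 := w.injective h1
    rw [h2, h2]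

/-- **an isometry of the roots of `G₂` preserving `{±s}` has square 1** -/
theorem sq_G2 {w : Equiv.Perm (Fin chevG2.nroots)}
    (hw : ∀ r s : Fin chevG2.nroots, pr chevG2 (w r) (w s) = pr chevG2 r s) {s : Fin chevG2.nroots}
    (hs : w s = s ∨ ((w s : Fin chevG2.nroots) : ℕ) = chevG2.neg s) (x : Fin chevG2.nroots) : w (w x) = x := by
  rcases hs with hs | hs
  · exact sq_fix hw hs x
  · -- `w` commutes with the negation
    have hn : ∀ r : Fin chevG2.nroots, chevG2.neg r < chevG2.nroots := fun r => neg_lt inG r.2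
    have hnn : ∀ r : Fin chevG2.nroots, chevG2.neg (chevG2.neg r) = r := fun r => RootVec.neg_neg (RootVecTab.checked_of_mem inG) r.2
    let ν : Equiv.Perm (Fin chevG2.nroots) :=
      { toFun := fun r => ⟨chevG2.neg r, hn r⟩
        invFun := fun r => ⟨chevG2.neg r, hn r⟩
        left_inv := fun r => Fin.ext (hnn r)
        right_inv := fun r => Fin.ext (hnn r) }
    have hν : ∀ r, ((ν r : Fin chevG2.nroots) : ℕ) = chevG2.neg r := fun r => rfl
    have hν1 : ∀ r s : Fin chevG2.nroots, pr chevG2 (ν r) s = -pr chevG2 r s := fun r s =>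
      H460.OT.Short.pr_neg_left inG r.2 s
    have hν2 : ∀ r s : Fin chevG2.nroots, pr chevG2 r (ν s) = -pr chevG2 r s := fun r s =>
      H460.OT.Short.pr_neg_right inG s.2 r
    have hνν : ∀ r, ν (ν r) = r := fun r => Fin.ext (hnn r)
    have key : ∀ r, w (ν r) = ν (w r) := by
      intro r
      apply Fin.ext
      rw [hν]
      refine H460.OT.Short.w_neg inG (w := fun r => w r) hw r
    have h1 : ∀ r s : Fin chevG2.nroots, pr chevG2 ((w * ν) r) ((w * ν) s) = pr chevG2 r s := by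
      intro r s
      rw [Equiv.Perm.mul_apply, Equiv.Perm.mul_apply, hw, hν1, hν2, neg_neg]
    have h2 : (w * ν) s = s := by
      rw [Equiv.Perm.mul_apply, key]
      apply Fin.ext
      rw [hν, hs]
      exact hnn s
    have h3 := sq_fix h1 h2 x
    rw [Equiv.Perm.mul_apply, Equiv.Perm.mul_apply, key (w (ν x)), key x, key, hνν] at h3
    exact h3

end G2

variable {D : ChevalleyDatum} {K : Type u} [Field K] [Fintype K] {p : ℕ} {F : Subgroup (GL D.Idx K)}

/-- the centre of `F` acts trivially on the root subgroups of `F` -/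
theorem chi_of_mem_Zf (hD : InList D) {z : GL D.Idx K} (hz : z ∈ Zf F) (hzT : z ∈ D.diagonalSubgroup K)
    {r : ℕ} (hr : r ∈ SF D K F) : chi D K z r = 1 := by
  have h1 : xG hD r (1 : K) ∈ F := hr.2 (xG_mem_rootSubgroup hD _ _)
  have h2 := (mem_Zf.1 hz).2 _ h1
  have h3 := tor_conj_xG hD hzT hr.1 (1 : K)
  rw [← h2, mul_inv_cancel_right, mul_one] at h3
  exact (xG_injective hD hr.1 h3).symm

/-- powers of `h_r(c)` -/
theorem hG_pow (hD : InList D) {r : ℕ} (hr : r < D.nroots) {c : K} (hc : c ≠ 0) (n : ℕ) :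
    hG hD r c ^ n = hG hD r (c ^ n) := by
  have hcn : c ^ n ≠ 0 := pow_ne_zero _ hc
  refine H175.OT.eq_of_chi hD (pow_mem (hG_mem hD hr hc) n) (hG_mem hD hr hcn) fun x hx => ?_
  rw [H175.OT.chi_pow hD (hG_mem hD hr hc), chi_hG hD hr hx hc, chi_hG hD hr hx hcn, ← zpow_natCast, ← zpow_natCast,
    ← zpow_mul, ← zpow_mul, mul_comm]

/-- a subgroup containing the conjugate of the generator contains the conjugate of `H_r` -/
theorem Hr_conj_le (hD : InList D) {r : ℕ} (hr : r < D.nroots) {γ : Kˣ} (hγ : orderOf γ = Fintype.card K - 1)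
    {g : GL D.Idx K} {H : Subgroup (GL D.Idx K)} (h : g * hG hD r (γ : K) * g⁻¹ ∈ H) :
    (Hr D K r).map (MulAut.conj g).toMonoidHom ≤ H := by
  rw [Hr_le_iff hD]
  intro c hc
  have hgen : ∀ x : Kˣ, x ∈ Subgroup.zpowers γ := by
    have h1 : Nat.card (Subgroup.zpowers γ) = Nat.card Kˣ := by
      rw [Nat.card_zpowers, hγ, Nat.card_units, Nat.card_eq_fintype_card]
    have h2 := Subgroup.eq_top_of_card_eq _ h1
    intro x
    rw [h2]
    exact mem_top x
  have h3 : Units.mk0 c hc ∈ Submonoid.powers γ := by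
    have := hgen (Units.mk0 c hc)
    rwa [← mem_powers_iff_mem_zpowers] at this
  obtain ⟨n, hn⟩ := h3
  have h4 : c = (γ : K) ^ n := by
    have := congrArg Units.val hn
    rw [Units.val_pow_eq_pow_val, Units.val_mk0] at this
    exact this.symm
  rw [h4, ← hG_pow hD hr γ.ne_zero, ← conj_pow]
  exact pow_mem h n

/-- **(N1)** -/
theorem ns_pm (h : Hyp K p D) (hDD : D = chevF4 ∨ D = chevG2) (hF : MinBad D K F)
    (hcY : centralizer (Y0 D K F : Set (GL D.Idx K)) ⊓ F ≤ DF D K F ⊔ D.diagonalSubgroup K)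
    {s : ℕ} (hS : SF D K F = {s, D.neg s}) (hN : NsA1 D K F)
    (TI : ∀ t ∈ D.diagonalSubgroup K, ∀ f ∈ F, f * t * f⁻¹ ∈ D.diagonalSubgroup K → t ∉ Zf F → f ∈ MF D K F)
    {γ : Kˣ} (hγ : orderOf γ = Fintype.card K - 1)
    {g : GL D.Idx K} (hg : g ∈ F) (hgM : g ∉ MF D K F) {r : ℕ} (hr : r < D.nroots)
    (hR : IsLong D r ∨ r = s ∨ D = chevF4)
    (hx : g * hG h.inList r (γ : K) * g⁻¹ ∈ MF D K F) : (hG h.inList r (γ : K)) ^ 2 ∈ Zf F := by
  have hD := h.inList
  have hq := h.card
  -- the end: an element of `T` with a conjugate in `D T`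
  have fin : ∀ t ∈ D.diagonalSubgroup K, g * t * g⁻¹ ∈ DF D K F ⊔ D.diagonalSubgroup K → t ^ 2 ∈ Zf F := by
    intro t ht hgt
    have h1 : (g * t * g⁻¹) ^ (Fintype.card K - 1) = 1 := by
      rw [conj_pow, H175.OT.tor_pow hD ht, mul_one, mul_inv_cancel]
    rcases hN (Fintype.card K) Nat.card_eq_fintype_card _ hgt h1 with ⟨d, hd, h2⟩ | ⟨h2, -⟩
    · by_contra h3
      have h4 : t ∉ Zf F := fun h5 => h3 (pow_mem h5 2)
      have h5 : d * g * t * (d * g)⁻¹ ∈ D.diagonalSubgroup K := by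
        have e : d * g * t * (d * g)⁻¹ = d * (g * t * g⁻¹) * d⁻¹ := by group
        rw [e]
        exact h2
      have h6 := TI t ht (d * g) (mul_mem (DF_le F hd) hg) h5 h4
      apply hgM
      have h7 := mul_mem (inv_mem (DF_le_MF F hd)) h6
      rwa [inv_mul_cancel_left] at h7
    · by_contra h3
      rw [conj_pow] at h2
      exact hgM (TI (t ^ 2) (pow_mem ht 2) g hg h2 h3)
  have hhr : hG hD r (γ : K) ∈ D.diagonalSubgroup K := hG_mem hD hr γ.ne_zero
  by_cases hA : IsLong D r ∨ D = chevF4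
  · -- window 2
    have hw : ∀ x < D.nroots, |pr D r x| ≤ 2 := by
      intro x hx
      rcases hA with hA | rfl
      · exact H428.OT.abs_pr_of_long hD hA hx
      · exact H428.OT.abs_pr_le_two (by simp) hr hx
    have h1 := comm_Y0_of_le_MF h hF.le hr hw (Hr_conj_le hD hr hγ hx)
    refine fin _ hhr (hcY (mem_inf.2 ⟨?_, mul_mem (mul_mem hg (hF.tor hhr)) (inv_mem hg)⟩))
    exact h1 ⟨_, hG_mem_Hr hD r γ.ne_zero, rfl⟩
  · -- `G₂`, `r = s`
    push Not at hA
    have hrs : r = s := by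
      rcases hR with hR | hR | hR
      · exact absurd hR hA.1
      · exact hR
      · exact absurd hR hA.2
    have hG2 : D = chevG2 := by
      rcases hDD with hDD | hDD
      · exact absurd hDD hA.2
      · exact hDD
    subst hrs
    subst hG2
    exfalso
    -- squares of elements of `M`
    have hsq : ∀ m ∈ MF chevG2 K F, m ^ 2 ∈ DF chevG2 K F ⊔ chevG2.diagonalSubgroup K := by
      intro m hm
      obtain ⟨d, hd, n, hn, hn', rfl⟩ := (mem_MF h hF.le).1 hm
      have hnm := H3.OT.mem_monomial_of_norm hD (by rw [Nat.card_eq_fintype_card]; omega) (hF.le hn) hn'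
      obtain ⟨k, hk⟩ : ∃ k : ↥(chevG2.monomialSubgroup K), (k : GL chevG2.Idx K) = n := ⟨⟨n, hnm⟩, rfl⟩
      have hw : ∀ r s : Fin chevG2.nroots, pr chevG2 (permHom hD K k r) (permHom hD K k s) = pr chevG2 r s :=
        H3.OT.pr_perm hD k
      have hrS : r ∈ SF chevG2 K F := by rw [hS]; exact Or.inl rfl
      have hwr : ((permHom hD K k ⟨r, hr⟩ : Fin chevG2.nroots) : ℕ) ∈ SF chevG2 K F := by
        refine ⟨Fin.is_lt _, ?_⟩
        rw [← conj_permHom hD k ⟨r, hr⟩]
        rintro _ ⟨x, hx, rfl⟩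
        have hkF : (k : GL chevG2.Idx K) ∈ F := by rw [hk]; exact hn
        exact F.mul_mem (F.mul_mem hkF (hrS.2 hx)) (F.inv_mem hkF)
      have hw2 : ∀ x, permHom hD K k (permHom hD K k x) = x := by
        refine sq_G2 hw (s := ⟨r, hr⟩) ?_
        rw [hS] at hwr
        rcases hwr with hwr | hwr
        · exact Or.inl (Fin.ext hwr)
        · exact Or.inr hwr
      -- `n² ∈ T`
      have hnF : n ^ 2 ∈ chevG2.group K := hF.le (pow_mem hn 2)
      have hn2 : n ^ 2 ∈ chevG2.diagonalSubgroup K := by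
        refine H428.OT.mem_tor_of_comm (by omega) hD hnF fun t ht => ?_
        rw [← mul_inv_eq_iff_eq_mul]
        have ht2 : n ^ 2 * t * (n ^ 2)⁻¹ ∈ chevG2.diagonalSubgroup K := (mem_normalizer_iff.1 (pow_mem hn' 2) t).1 ht
        refine H175.OT.eq_of_chi hD ht2 ht fun x hx => ?_
        obtain ⟨y, hy⟩ : ∃ y : Fin chevG2.nroots, (permHom hD K (k * k)) y = ⟨x, hx⟩ := (permHom hD K (k * k)).surjective _
        have hy' : y = ⟨x, hx⟩ := by
          rw [map_mul, Equiv.Perm.mul_apply, hw2] at hy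
          exact hy
        have h5 := H3.OT.chi_perm hD (k * k) ht y
        rw [hy, Subgroup.coe_mul, hk, ← pow_two, hy'] at h5
        exact h5
      have e : (d * n) ^ 2 = d * (n * d * n⁻¹) * n ^ 2 := by
        rw [pow_two, pow_two]
        group
      rw [e]
      have h6 : n * d * n⁻¹ ∈ DF chevG2 K F :=
        (mem_normalizer_iff.1 (norm_le_normalizer_DF h hF.le ⟨hn, hn'⟩) d).1 hd
      exact mul_mem ((le_sup_left : DF chevG2 K F ≤ _) (mul_mem hd h6)) ((le_sup_right : _ ≤ DF chevG2 K F ⊔ _) hn2)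
    have h1 := hsq _ hx
    rw [conj_pow] at h1
    have h2 := fin _ (pow_mem hhr 2) h1
    rw [← pow_mul, hG_pow hD hr γ.ne_zero] at h2
    have hrS : r ∈ SF chevG2 K F := by rw [hS]; exact Or.inl rfl
    have hne : (γ : K) ^ (2 * 2) ≠ 0 := pow_ne_zero _ γ.ne_zero
    have h3 := chi_of_mem_Zf hD h2 (hG_mem hD hr hne) hrS
    rw [chi_hG hD hr hr hne, H428.OT.pr_self hD hr, ← zpow_natCast, ← zpow_mul] at h3
    have h4 := H893.OT.dvd_of_zpow hγ h3
    have h5 := Int.le_of_dvd (by norm_num) h4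
    push_cast at h5
    omega

end Cfsg.Agent.H876.OT.Ns
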