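import Cfsg.Agent.H876.OT.Neg
import Cfsg.Agent.H186.OT.Emp
import Cfsg.Agent.H18.OT.G2

/-!
# S2539, part 3.1 / 3.2 for `D4`, `F4`, `E6`, `E7`, `E8` (helper876)

`Sit.noEl_two` : `D ∈ {D4, F4, E6, E7, E8}`, `13 ≤ |K|`, `2 ≠ 0`, `T ≤ F`, TI property of `T` in `F` modulo `Z(F)`,
`C_F(T) ≤ T`, the action of `N_F(T)` on the roots, and roots `a, b ∈ Psi` with `⟨b, a^∨⟩` odd: then `NoElF D K F 2`.
-/

set_option autoImplicit false

namespace Cfsg.Agent.H876.OT

open Subgroup Cfsg.Lie Cfsg.Agent.H412.OT Cfsg.Agent.H186.OT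
open Cfsg.Agent.ChevalleyStructure Cfsg.Agent.ChevalleyStructure.Elts

universe u

variable {D : ChevalleyDatum} {K : Type u} [Field K]

theorem Five.inList (h : Five D) : InList D := by
  have := h.mem
  simp only [InList]
  exact this

theorem eq_of_chi (hD : InList D) {t t' : GL D.Idx K} (ht : t ∈ D.diagonalSubgroup K)
    (ht' : t' ∈ D.diagonalSubgroup K) (h : ∀ s < D.nroots, chi D K t s = chi D K t' s) : t = t' := by
  apply Units.ext
  rw [coe_tor hD ht, coe_tor hD ht']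
  congr 1
  funext x
  rcases x with i | s
  · rfl
  · rw [Sum.elim_inr, Sum.elim_inr]
    exact h s s.2

theorem Five.chi_neg (h : Five D) {t : GL D.Idx K} (ht : t ∈ D.diagonalSubgroup K) {s : ℕ} (hs : s < D.nroots) :
    chi D K t (D.neg s) = (chi D K t s)⁻¹ := by
  have G := RootComb.good_of_mem h.mem
  have hs' := RootWord.neg_lt G hs
  obtain ⟨c, hc, e, -⟩ := tor_data h.inList ht
  rw [chi, chi, dif_pos hs, dif_pos hs', e, Matrix.diagonal_apply_eq, Matrix.diagonal_apply_eq, Sum.elim_inr,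
    Sum.elim_inr, ← Finset.prod_inv_distrib]
  refine Finset.prod_congr rfl fun i hi => ?_
  show c i ^ D.cartan i (D.neg s) = (c i ^ D.cartan i s)⁻¹
  rw [G.cartan_neg (Finset.mem_range.1 hi) hs, zpow_neg]

theorem Five.neg_mem_Psi (h : Five D) {F : Subgroup (GL D.Idx K)} (hZ : Zf F ≤ D.diagonalSubgroup K) {a : ℕ}
    (ha : a ∈ Psi D K F) : D.neg a ∈ Psi D K F := by
  refine ⟨RootWord.neg_lt (RootComb.good_of_mem h.mem) ha.1, fun z hz => ?_⟩
  rw [h.chi_neg (hZ hz) ha.1, ha.2 z hz, inv_one]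

theorem conj_mem {n t : GL D.Idx K} (hn : n ∈ normalizer (D.diagonalSubgroup K : Set (GL D.Idx K)))
    (ht : t ∈ D.diagonalSubgroup K) : n * t * n⁻¹ ∈ D.diagonalSubgroup K :=
  (mem_normalizer_iff.1 hn t).1 ht

/-- `w` is the permutation of the roots afforded by `n` -/
structure Afford (D : ChevalleyDatum) (K : Type u) [Field K] (n : GL D.Idx K) (w : Equiv.Perm (Fin D.nroots)) :
    Prop where
  pr : ∀ r s : Fin D.nroots, pr D (w r) (w s) = pr D r s
  chi : ∀ t ∈ D.diagonalSubgroup K, ∀ s : Fin D.nroots, chi D K (n * t * n⁻¹) (w s) = Cfsg.Agent.H412.OT.chi D K t s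

theorem Afford.mul {n n' : GL D.Idx K} {w w' : Equiv.Perm (Fin D.nroots)} (h : Afford D K n w) (h' : Afford D K n' w')
    (hn' : n' ∈ normalizer (D.diagonalSubgroup K : Set (GL D.Idx K))) : Afford D K (n * n') (w * w') where
  pr r s := by
    rw [Equiv.Perm.mul_apply, Equiv.Perm.mul_apply, h.pr, h'.pr]
  chi t ht s := by
    have e : n * n' * t * (n * n')⁻¹ = n * (n' * t * n'⁻¹) * n⁻¹ := by group
    rw [e, Equiv.Perm.mul_apply, h.chi _ (conj_mem hn' ht), h'.chi t ht]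

theorem Afford.conj_h (hD : InList D) {n : GL D.Idx K} {w : Equiv.Perm (Fin D.nroots)} (h : Afford D K n w)
    (hn : n ∈ normalizer (D.diagonalSubgroup K : Set (GL D.Idx K))) {c : K} (hc : c ≠ 0) (r : Fin D.nroots) :
    n * hG hD r c * n⁻¹ = hG hD (w r) c := by
  apply eq_of_chi hD (conj_mem hn (hG_mem hD r.2 hc)) (hG_mem hD (w r).2 hc)
  intro s hs
  obtain ⟨s', hs'⟩ := w.surjective ⟨s, hs⟩
  have e : s = (w s' : Fin D.nroots) := by rw [hs']
  rw [e, h.chi _ (hG_mem hD r.2 hc), chi_hG hD r.2 s'.2 hc, chi_hG hD (w r).2 (w s').2 hc, h.pr]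

/-- the permutation as a function on `ℕ` -/
def toN (w : Equiv.Perm (Fin D.nroots)) (r : ℕ) : ℕ := if h : r < D.nroots then (w ⟨r, h⟩ : ℕ) else r

theorem toN_of_lt (w : Equiv.Perm (Fin D.nroots)) (r : Fin D.nroots) : toN w r = (w r : ℕ) := by
  rw [toN, dif_pos r.2]

theorem prMap_toN {w : Equiv.Perm (Fin D.nroots)} (h1 : ∀ r s : Fin D.nroots, pr D (w r) (w s) = pr D r s)
    (h2 : ∀ s, w (w s) = s) : PrMap D (toN w) where
  lt {r} hr := by
    rw [show toN w r = (w ⟨r, hr⟩ : ℕ) from toN_of_lt w ⟨r, hr⟩]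
    exact (w _).2
  pr {r s} hr hs := by
    rw [show toN w r = (w ⟨r, hr⟩ : ℕ) from toN_of_lt w ⟨r, hr⟩, show toN w s = (w ⟨s, hs⟩ : ℕ) from toN_of_lt w ⟨s, hs⟩]
    exact h1 _ _
  inv {r} hr := by
    rw [show toN w r = (w ⟨r, hr⟩ : ℕ) from toN_of_lt w ⟨r, hr⟩, toN_of_lt, h2]

variable [Fintype K]

theorem Five.chi_inj (h5 : Five D) (hq : 13 ≤ Fintype.card K) {x y : ℕ} (hx : x < D.nroots) (hy : y < D.nroots)
    (h : ∀ t ∈ D.diagonalSubgroup K, chi D K t x = chi D K t y) : x = y := by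
  obtain ⟨γ, hγ⟩ := Cfsg.Agent.H18.OT.exists_gen K
  refine h5.eq_of_pr hx hy fun r hr => ?_
  have h1 := h _ (hG_mem (K := K) h5.inList hr γ.ne_zero)
  rw [chi_hG h5.inList hr hx γ.ne_zero, chi_hG h5.inList hr hy γ.ne_zero] at h1
  have h2 := Cfsg.Agent.H18.OT.eq_of_zpow hγ h1
  have b1 := h5.bound hr hx
  have b2 := h5.bound hr hy
  have h3 : pr D r x - pr D r y = 0 := by
    apply Int.eq_zero_of_abs_lt_dvd h2
    have hc : (12 : ℤ) ≤ ((Fintype.card K - 1 : ℕ) : ℤ) := by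
      have : 12 ≤ Fintype.card K - 1 := by omega
      exact_mod_cast this
    rw [abs_lt]
    constructor <;> linarith [b1.1, b1.2, b2.1, b2.2]
  omega

/-- the square of `m` acts trivially -/
theorem Afford.sq (h5 : Five D) (hq : 13 ≤ Fintype.card K) {m : GL D.Idx K} {w : Equiv.Perm (Fin D.nroots)}
    (h : Afford D K m w) (hm : m ∈ normalizer (D.diagonalSubgroup K : Set (GL D.Idx K)))
    (h2 : ∀ t ∈ D.diagonalSubgroup K, m ^ 2 * t = t * m ^ 2) (s : Fin D.nroots) : w (w s) = s := by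
  apply Fin.ext
  apply h5.chi_inj hq (w (w s)).2 s.2
  intro t ht
  have h3 := h.chi _ (conj_mem hm ht) (w s)
  rw [h.chi _ ht] at h3
  rw [← h3]
  congr 1
  have h4 := h2 t ht
  rw [pow_two] at h4
  calc t = t * (m * m) * (m * m)⁻¹ := by group
    _ = m * m * t * (m * m)⁻¹ := by rw [h4]
    _ = m * (m * t * m⁻¹) * m⁻¹ := by group

/-- the exponents of `h_r` on the adjoint module -/
def ex (D : ChevalleyDatum) (r : ℕ) : D.Idx → ℤ := Sum.elim (fun _ => 0) (fun s => pr D r s)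

omit [Fintype K] in
theorem dco_ex (hD : InList D) {r : ℕ} (hr : r < D.nroots) (c : Kˣ) :
    Cfsg.Agent.H428.OT.dco (ex D r) c = hG (F := K) hD r (c : K) := by
  apply Units.ext
  rw [Cfsg.Agent.H428.OT.coe_dco, coe_hG_diag hD hr c.ne_zero]
  congr 1
  funext x
  rcases x with i | s
  · simp only [ex, Sum.elim_inl, zpow_zero, Units.val_one]
  · simp only [ex, Sum.elim_inr, Units.val_zpow_eq_zpow_val]

omit [Fintype K] in
theorem dco_ex_add (hD : InList D) {r r' : ℕ} (hr : r < D.nroots) (hr' : r' < D.nroots) (c : Kˣ) :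
    Cfsg.Agent.H428.OT.dco (fun x => ex D r x + ex D r' x) c = hG (F := K) hD r (c : K) * hG hD r' (c : K) := by
  apply Units.ext
  rw [Cfsg.Agent.H428.OT.coe_dco, Units.val_mul, coe_hG_diag hD hr c.ne_zero, coe_hG_diag hD hr' c.ne_zero,
    Matrix.diagonal_mul_diagonal]
  congr 1
  funext x
  rcases x with i | s
  · simp only [ex, Sum.elim_inl, add_zero, zpow_zero, Units.val_one, mul_one]
  · simp only [ex, Sum.elim_inr, Units.val_zpow_eq_zpow_val]
    rw [zpow_add₀ c.ne_zero]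

omit [Fintype K] in
theorem isDiag (hD : InList D) : Cfsg.Agent.H428.OT.IsDiagSub (D.diagonalSubgroup K) := fun _ ht => ⟨_, coe_tor hD ht⟩

/-- The facts on `F`. -/
structure Sit (D : ChevalleyDatum) (K : Type u) [Field K] [Fintype K] (F : Subgroup (GL D.Idx K)) : Prop where
  five : Five D
  card : 13 ≤ Fintype.card K
  tor : D.diagonalSubgroup K ≤ F
  act : ∀ n ∈ F, n ∈ normalizer (D.diagonalSubgroup K : Set (GL D.Idx K)) →
    ∃ w : Equiv.Perm (Fin D.nroots), Afford D K n w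
  ti : ∀ t ∈ D.diagonalSubgroup K, t ∉ Zf F → ∀ g ∈ F, g * t * g⁻¹ ∈ D.diagonalSubgroup K →
    g ∈ normalizer (D.diagonalSubgroup K : Set (GL D.Idx K))
  self : ∀ x ∈ F, (∀ t ∈ D.diagonalSubgroup K, x * t = t * x) → x ∈ D.diagonalSubgroup K

variable {F : Subgroup (GL D.Idx K)}

theorem Sit.zf_le (h : Sit D K F) : Zf F ≤ D.diagonalSubgroup K := fun z hz =>
  h.self z (mem_Zf.1 hz).1 fun t ht => ((mem_Zf.1 hz).2 t (h.tor ht)).symm

theorem Sit.cent (h : Sit D K F) {t : GL D.Idx K} (ht : t ∈ D.diagonalSubgroup K) (hZ : t ∉ Zf F)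
    {g : GL D.Idx K} (hg : g ∈ F) (hgt : g * t = t * g) :
    g ∈ normalizer (D.diagonalSubgroup K : Set (GL D.Idx K)) := by
  apply h.ti t ht hZ g hg
  rw [hgt, mul_inv_cancel_right]
  exact ht

omit [Fintype K] in
theorem conj_Zf {z g : GL D.Idx K} (hg : g ∈ F) (hz : z ∈ Zf F) : g * z * g⁻¹ = z := by
  rw [(mem_Zf.1 hz).2 g hg, mul_inv_cancel_right]

omit [Fintype K] in
theorem not_Zf {m g : GL D.Idx K} (hg : g ∈ F) (hm : m ∉ Zf F) : g * m * g⁻¹ ∉ Zf F := by
  intro h1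
  apply hm
  have h2 := conj_Zf (inv_mem hg) h1
  have h3 : g⁻¹ * (g * m * g⁻¹) * g⁻¹⁻¹ = m := by group
  rw [h3] at h2
  rw [h2]
  exact h1

/-- **(K')** : one-parameter subgroups fixed by `m` with a small window are central. -/
theorem Sit.kz (h : Sit D K F) {g m : GL D.Idx K} (hg : g ∈ F)
    (hgN : g ∉ normalizer (D.diagonalSubgroup K : Set (GL D.Idx K)))
    (hgm : g * m * g⁻¹ ∈ D.diagonalSubgroup K) (hmZ : m ∉ Zf F) {e : D.Idx → ℤ} (he : ∀ x, -2 ≤ e x ∧ e x ≤ 2)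
    {x : Kˣ → GL D.Idx K} (hx : ∀ c, Cfsg.Agent.H428.OT.dco e c = x c) (hxT : ∀ c, x c ∈ D.diagonalSubgroup K)
    (hm : ∀ c, m * x c * m⁻¹ = x c) (c : Kˣ) : x c ∈ Zf F := by
  have htZ := not_Zf hg hmZ
  have hF : ∀ c : Kˣ, g * x c * g⁻¹ ∈ F := fun c => mul_mem (mul_mem hg (h.tor (hxT c))) (inv_mem hg)
  have hN : ∀ c : Kˣ, g * x c * g⁻¹ ∈ normalizer (D.diagonalSubgroup K : Set (GL D.Idx K)) := by
    intro c
    apply h.cent hgm htZ (hF c)
    have h2 : m * x c = x c * m := mul_inv_eq_iff_eq_mul.1 (hm c)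
    calc g * x c * g⁻¹ * (g * m * g⁻¹) = g * (x c * m) * g⁻¹ := by group
      _ = g * (m * x c) * g⁻¹ := by rw [h2]
      _ = g * m * g⁻¹ * (g * x c * g⁻¹) := by group
  have hlau : g * x c * g⁻¹ ∈ D.diagonalSubgroup K := by
    apply h.self _ (hF c)
    have hq := h.card
    have h1 := Cfsg.Agent.H428.OT.lau (T := D.diagonalSubgroup K) (isDiag h.five.inList) (a := -2) (D := 4) (s := 2)
      (fun d hd hd1 => by
        have : d ≠ 0 := by
          rintro rfl
          have := Nat.eq_zero_of_zero_dvd hd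
          omega
        omega)
      (by omega) (e := e) (fun y => ⟨(he y).1, by push_cast; linarith [(he y).2]⟩) g
      (fun c => by rw [hx]; exact hN c) c
    rw [hx] at h1
    exact h1
  by_contra h7
  exact hgN (h.ti _ (hxT c) h7 g hg hlau)

theorem Sit.zpow_zero (h : Sit D K F) {k : ℤ} (hk : -2 ≤ k ∧ k ≤ 2) (hc : ∀ c : Kˣ, (c : K) ^ k = 1) : k = 0 := by
  obtain ⟨γ, hγ⟩ := Cfsg.Agent.H18.OT.exists_gen K
  have h1 : ((γ : K)) ^ k = (γ : K) ^ (0 : ℤ) := by rw [hc γ, _root_.zpow_zero]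
  have h2 := Cfsg.Agent.H18.OT.eq_of_zpow hγ h1
  rw [sub_zero] at h2
  apply Int.eq_zero_of_abs_lt_dvd h2
  have hc : (12 : ℤ) ≤ ((Fintype.card K - 1 : ℕ) : ℤ) := by
    have := h.card
    have : 12 ≤ Fintype.card K - 1 := by omega
    exact_mod_cast this
  rw [abs_lt]
  constructor <;> linarith [hk.1, hk.2]

/-- **3.1** : `m` acts as `-1` on `Psi`. -/
theorem Sit.inv (h : Sit D K F) {g m : GL D.Idx K} (hg : g ∈ F)
    (hgN : g ∉ normalizer (D.diagonalSubgroup K : Set (GL D.Idx K)))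
    (hmN : m ∈ normalizer (D.diagonalSubgroup K : Set (GL D.Idx K)))
    (hgm : g * m * g⁻¹ ∈ D.diagonalSubgroup K) (hm2 : m ^ 2 ∈ Zf F) (hmZ : m ∉ Zf F)
    {w : Equiv.Perm (Fin D.nroots)} (hw : Afford D K m w) (a : Fin D.nroots) (ha : (a : ℕ) ∈ Psi D K F) :
    (w a : ℕ) = D.neg a := by
  have h5 := h.five
  have hD := h5.inList
  have hww : ∀ s, w (w s) = s := hw.sq h5 h.card hmN fun t ht => ((mem_Zf.1 hm2).2 t (h.tor ht)).symm
  have hpm := prMap_toN hw.pr hww
  rw [← toN_of_lt w a]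
  refine h5.neg_of_inv hpm a.2 ?_ ?_
  · intro r hr hrw
    have hrw' : w ⟨r, hr⟩ = ⟨r, hr⟩ := by
      apply Fin.ext
      rw [← toN_of_lt]
      exact hrw
    refine h.zpow_zero (h5.bound hr a.2) fun c => ?_
    have h1 := h.kz hg hgN hgm hmZ (e := ex D r) (x := fun c => hG hD r (c : K)) (fun y => by
      rcases y with i | s
      · simp only [ex, Sum.elim_inl]; norm_num
      · simp only [ex, Sum.elim_inr]
        exact h5.bound hr s.2) (fun c => dco_ex hD hr c) (fun c => hG_mem hD hr c.ne_zero) (fun c => by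
        have h2 := hw.conj_h hD hmN c.ne_zero ⟨r, hr⟩
        rw [hrw'] at h2
        exact h2) c
    have h2 := ha.2 _ h1
    rw [chi_hG hD hr a.2 c.ne_zero] at h2
    exact h2
  · intro hF h0
    have hwa : toN w a = (w a : ℕ) := toN_of_lt w a
    rw [hwa] at h0
    have hb : (w a : ℕ) < D.nroots := (w a).2
    have h0' : pr D (w a) a = 0 := h5.zero_symm a.2 hb h0
    have h3 : (2 : ℤ) = 0 := by
      refine h.zpow_zero (by norm_num) fun c => ?_
      have h1 := h.kz hg hgN hgm hmZ (e := fun x => ex D a x + ex D (w a) x)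
        (x := fun c => hG hD a (c : K) * hG hD (w a) (c : K)) (fun y => by
          rcases y with i | s
          · simp only [ex, Sum.elim_inl]; norm_num
          · simp only [ex, Sum.elim_inr]
            -- `|⟨s, a^∨⟩ + ⟨s, (wa)^∨⟩| ≤ 2`
            have key : ∀ x < D.nroots, ∀ y < D.nroots, pr D x y = 0 → ∀ s < D.nroots, -1 ≤ pr D x s ∧ pr D x s ≤ 1 ∨
                pr D y s = 0 := by
              intro x hx y hy hxy s hs
              by_cases e1 : s = x
              · right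
                rw [e1]
                exact h5.zero_symm hx hy hxy
              by_cases e2 : s = D.neg x
              · right
                rw [e2, h5.neg_right hx, h5.zero_symm hx hy hxy, neg_zero]
              · left
                have h7 := (h5.pair hx hs e1 e2).2.1
                rw [h5.symm hF hs hx] at h7
                constructor <;> nlinarith
            have b1 := h5.bound a.2 s.2
            have b2 := h5.bound hb s.2
            rcases key a a.2 (w a) hb h0 s s.2 with k1 | k1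
            · rcases key (w a) hb a a.2 h0' s s.2 with k2 | k2
              · constructor <;> linarith [k1.1, k1.2, k2.1, k2.2]
              · rw [k2, zero_add]
                exact b2
            · rw [k1, add_zero]
              exact b1) (fun c => dco_ex_add hD a.2 hb c)
        (fun c => mul_mem (hG_mem hD a.2 c.ne_zero) (hG_mem hD hb c.ne_zero)) (fun c => by
          have h2 := hw.conj_h hD hmN c.ne_zero a
          have h4 := hw.conj_h hD hmN c.ne_zero (w a)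
          rw [hww] at h4
          calc m * (hG hD a (c : K) * hG hD (w a) (c : K)) * m⁻¹
              = (m * hG hD a (c : K) * m⁻¹) * (m * hG hD (w a) (c : K) * m⁻¹) := by group
            _ = hG hD (w a) (c : K) * hG hD a (c : K) := by rw [h2, h4]
            _ = hG hD a (c : K) * hG hD (w a) (c : K) :=
                tor_comm hD (hG_mem hD hb c.ne_zero) (hG_mem hD a.2 c.ne_zero)) c
      have h2 := ha.2 _ h1
      rw [chi_mul hD (hG_mem hD a.2 c.ne_zero) (hG_mem hD hb c.ne_zero), chi_hG hD a.2 a.2 c.ne_zero,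
        chi_hG hD hb a.2 c.ne_zero, h5.self a.2, h0', _root_.zpow_zero, mul_one] at h2
      exact h2
    norm_num at h3

/-- Elements of `T` that commute with `m` modulo `Z(F)` and have square in `Z(F)`. -/
def Gd (F : Subgroup (GL D.Idx K)) (m y : GL D.Idx K) : Prop :=
  y ∈ D.diagonalSubgroup K ∧ y ^ 2 ∈ Zf F ∧ m * y * m⁻¹ * y⁻¹ ∈ Zf F

omit [Fintype K] in
theorem Gd.mul (h5 : Five D) (hT : D.diagonalSubgroup K ≤ F) {m y y' : GL D.Idx K} (h : Gd F m y) (h' : Gd F m y') :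
    Gd F m (y * y') := by
  obtain ⟨h1, h2, h3⟩ := h
  obtain ⟨h1', h2', h3'⟩ := h'
  have hD := h5.inList
  refine ⟨mul_mem h1 h1', ?_, ?_⟩
  · have e : (y * y') ^ 2 = y ^ 2 * y' ^ 2 := by
      rw [pow_two, pow_two, pow_two]
      calc y * y' * (y * y') = y * (y' * y) * y' := by group
        _ = y * (y * y') * y' := by rw [tor_comm hD h1' h1]
        _ = y * y * (y' * y') := by group
    rw [e]
    exact mul_mem h2 h2'
  · have h4 := (mem_Zf.1 h3').2 y⁻¹ (inv_mem (hT h1))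
    have e : m * (y * y') * m⁻¹ * (y * y')⁻¹ = m * y * m⁻¹ * ((m * y' * m⁻¹ * y'⁻¹) * y⁻¹) := by group
    rw [e, ← h4]
    have e2 : m * y * m⁻¹ * (y⁻¹ * (m * y' * m⁻¹ * y'⁻¹)) = (m * y * m⁻¹ * y⁻¹) * (m * y' * m⁻¹ * y'⁻¹) := by group
    rw [e2]
    exact mul_mem h3 h3'

/-- the conjugate of a good element -/
theorem Sit.gd (h : Sit D K F) {g m y : GL D.Idx K} (hg : g ∈ F)
    (hgm : g * m * g⁻¹ ∈ D.diagonalSubgroup K) (hmZ : m ∉ Zf F) (hy : Gd F m y) :
    g * y * g⁻¹ ∈ normalizer (D.diagonalSubgroup K : Set (GL D.Idx K)) := by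
  obtain ⟨h1, h2, h3⟩ := hy
  have hyF := h.tor h1
  have hnF : g * y * g⁻¹ ∈ F := mul_mem (mul_mem hg hyF) (inv_mem hg)
  have htZ := not_Zf hg hmZ
  refine h.ti _ hgm htZ _ hnF ?_
  have hz : (m * y * m⁻¹ * y⁻¹)⁻¹ ∈ Zf F := inv_mem h3
  have e : g * y * g⁻¹ * (g * m * g⁻¹) * (g * y * g⁻¹)⁻¹ = (g * (m * y * m⁻¹ * y⁻¹)⁻¹ * g⁻¹) * (g * m * g⁻¹) := by
    group
  rw [e, conj_Zf hg hz]
  exact mul_mem (h.zf_le hz) hgm

/-- there are no three good elements -/
theorem Sit.three (h : Sit D K F) {g m y y' : GL D.Idx K} (hg : g ∈ F)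
    (hgN : g ∉ normalizer (D.diagonalSubgroup K : Set (GL D.Idx K)))
    (hgm : g * m * g⁻¹ ∈ D.diagonalSubgroup K) (hmZ : m ∉ Zf F) (hy : Gd F m y) (hy' : Gd F m y') (h1 : y ∉ Zf F)
    (h2 : y' ∉ Zf F) (h3 : y * y' ∉ Zf F) {a : ℕ} (ha : a ∈ Psi D K F) : False := by
  have h5 := h.five
  have G := RootComb.good_of_mem h5.mem
  have hg' : g⁻¹ ∉ normalizer (D.diagonalSubgroup K : Set (GL D.Idx K)) := fun h1 => hgN (by
    have := inv_mem h1
    rwa [inv_inv] at this)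
  have hyy := hy.mul h5 h.tor hy'
  have hF : ∀ x, Gd F m x → g * x * g⁻¹ ∈ F := fun x hx => mul_mem (mul_mem hg (h.tor hx.1)) (inv_mem hg)
  have hN : ∀ x, Gd F m x → g * x * g⁻¹ ∈ normalizer (D.diagonalSubgroup K : Set (GL D.Idx K)) := fun x hx =>
    h.gd hg hgm hmZ hx
  have key : ∀ x, Gd F m x → x ∉ Zf F → ∀ w : Equiv.Perm (Fin D.nroots), Afford D K (g * x * g⁻¹) w →
      ∀ b : Fin D.nroots, (b : ℕ) ∈ Psi D K F → (w b : ℕ) = D.neg b := by
    intro x hx hxZ w hw b hb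
    refine h.inv (inv_mem hg) hg' (hN x hx) ?_ ?_ (not_Zf hg hxZ) hw b hb
    · have : g⁻¹ * (g * x * g⁻¹) * g⁻¹⁻¹ = x := by group
      rw [this]
      exact hx.1
    · have : (g * x * g⁻¹) ^ 2 = g * x ^ 2 * g⁻¹ := by rw [conj_pow]
      rw [this, conj_Zf hg hx.2.1]
      exact hx.2.1
  obtain ⟨w, hw⟩ := h.act _ (hF y hy) (hN y hy)
  obtain ⟨w', hw'⟩ := h.act _ (hF y' hy') (hN y' hy')
  have hww := hw.mul hw' (hN y' hy')
  have e : g * y * g⁻¹ * (g * y' * g⁻¹) = g * (y * y') * g⁻¹ := by group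
  rw [e] at hww
  have ha' := h5.neg_mem_Psi h.zf_le ha
  have k1 := key _ hyy h3 _ hww ⟨a, ha.1⟩ ha
  have k2 := key _ hy' h2 _ hw' ⟨a, ha.1⟩ ha
  have k3 := key _ hy h1 _ hw ⟨D.neg a, ha'.1⟩ ha'
  rw [Equiv.Perm.mul_apply] at k1
  have e2 : w' ⟨a, ha.1⟩ = ⟨D.neg a, ha'.1⟩ := Fin.ext k2
  rw [e2] at k1
  rw [k3] at k1
  have k4 : D.neg (D.neg a) = a := RootWord.neg_neg G ha.1
  rw [k4] at k1
  exact RootWord.neg_ne G ha.1 k1.symm

/-- some simple root pairs to an odd number with `a` -/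
theorem Five.exists_odd (h5 : Five D) {a : ℕ} (ha : a < D.nroots) : ∃ r < D.nroots, ¬ Even (pr D r a) := by
  have hm : D ∈ [chevG2, chevD4, chevF4, chevE6, chevE7, chevE8] := by
    simp only [List.mem_cons, List.not_mem_nil, or_false]
    unfold Five at h5
    tauto
  have G := RootComb.good_of_mem h5.mem
  obtain ⟨m, hm⟩ := Cfsg.Agent.H134.PairFacts.exists_one (h5.mem) (Cfsg.Agent.H134.PairFacts.chk1_of_mem hm) ha
  by_contra hcon
  push Not at hcon
  have h1 : Even (Cfsg.Agent.ChevalleyStructure.St.Conj.lin D m a) := by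
    rw [Cfsg.Agent.ChevalleyStructure.St.Conj.lin_def]
    refine Finset.even_sum _ fun k hk => ?_
    have h2 := hcon _ (G.simple_lt (Finset.mem_range.1 hk))
    have h3 : pr D (D.simple k) a = D.cartan k a := RootWord.car_simple G (Finset.mem_range.1 hk) a
    rw [h3] at h2
    exact h2.mul_left _
  rw [hm] at h1
  exact absurd h1 (by decide)

/-- non-orthogonal, non-proportional roots: some pairing is odd -/
theorem Five.exists_odd_pair (h5 : Five D) {P : Set ℕ} (hP : ∀ a ∈ P, a < D.nroots)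
    (hr : ∃ a ∈ P, ∃ b ∈ P, b ≠ a ∧ b ≠ D.neg a ∧ pr D a b ≠ 0) : ∃ a ∈ P, ∃ b ∈ P, ¬ Even (pr D a b) := by
  obtain ⟨a, ha, b, hb, hb1, hb2, hab⟩ := hr
  have h2 := h5.pair (hP a ha) (hP b hb) hb1 hb2
  have h3 : pr D b a ≠ 0 := fun h => hab (h2.2.2.2 h)
  by_contra hcon
  push Not at hcon
  obtain ⟨x, hx⟩ := hcon a ha b hb
  obtain ⟨y, hy⟩ := hcon b hb a ha
  have h4 : pr D a b * pr D b a ≠ 0 := mul_ne_zero hab h3
  rw [hx, hy] at h4 h2
  have h5 : (x + x) * (y + y) = 4 * (x * y) := by ring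
  rw [h5] at h4 h2
  omega

/-- `Psi` irreducible of rank at least two: some pairing is odd -/
theorem Five.exists_odd_Psi (h5 : Five D) {P : Set ℕ} (hP : ∀ a ∈ P, a < D.nroots)
    (hirr : ∀ P1 P2 : Set ℕ, P1.Nonempty → P2.Nonempty → P1 ∪ P2 = P →
      (∀ a ∈ P1, ∀ b ∈ P2, pr D a b = 0) → False)
    (hrk : ∀ a < D.nroots, ¬ P ⊆ {a, D.neg a}) : ∃ a ∈ P, ∃ b ∈ P, ¬ Even (pr D a b) := by
  have G := RootComb.good_of_mem h5.mem
  have hne : P.Nonempty := by
    by_contra h1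
    rw [Set.not_nonempty_iff_eq_empty] at h1
    exact hrk 0 G.nroots_pos (by rw [h1]; exact Set.empty_subset _)
  obtain ⟨a, ha⟩ := hne
  have ha' := hP a ha
  have h1 : ∃ b ∈ P \ {a, D.neg a}, pr D a b ≠ 0 := by
    by_contra hcon
    push Not at hcon
    refine hirr (P ∩ {a, D.neg a}) (P \ {a, D.neg a}) ⟨a, ha, Or.inl rfl⟩ ?_ (Set.inter_union_sdiff P _) ?_
    · rw [Set.nonempty_iff_ne_empty]
      intro h2
      exact hrk a ha' (Set.sdiff_eq_empty.1 h2)
    · rintro x ⟨-, rfl | hx⟩ b hb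
      · exact hcon b hb
      · rw [Set.mem_singleton_iff] at hx
        rw [hx, h5.neg_left ha', hcon b hb, neg_zero]
  obtain ⟨b, ⟨hb, hbn⟩, hab⟩ := h1
  exact h5.exists_odd_pair hP ⟨a, ha, b, hb, fun h => hbn (Or.inl h), fun h => hbn (Or.inr h), hab⟩

/-- **3.1 / 3.2 for `D4`, `F4`, `E6`, `E7`, `E8`.** -/
theorem Sit.noEl_two (h : Sit D K F) (h2 : (2 : K) ≠ 0)
    (hpsi : ∃ a ∈ Psi D K F, ∃ b ∈ Psi D K F, ¬ Even (pr D a b)) : NoElF D K F 2 := by
  intro g hg hgN m hm hmN hgm hm2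
  by_contra hmZ
  have h5 := h.five
  have hD := h5.inList
  obtain ⟨a, ha, b, hb, hab⟩ := hpsi
  obtain ⟨w, hw⟩ := h.act m hm hmN
  have hww : ∀ s, w (w s) = s := hw.sq h5 h.card hmN fun t ht => ((mem_Zf.1 hm2).2 t (h.tor ht)).symm
  have hneg := fun (x : Fin D.nroots) (hx : (x : ℕ) ∈ Psi D K F) => h.inv hg hgN hmN hgm hm2 hmZ hw x hx
  have hneg1 : (-1 : K) ≠ 0 := by simp
  have hT : ∀ r < D.nroots, hG (F := K) hD r (-1) ∈ D.diagonalSubgroup K := fun r hr => hG_mem hD hr hneg1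
  have hchi : ∀ r < D.nroots, ∀ s < D.nroots, chi D K (hG hD r (-1)) s = (-1) ^ pr D r s := fun r hr s hs =>
    chi_hG hD hr hs hneg1
  have hEv : ∀ k : ℤ, ((-1 : K)) ^ k = 1 → Even k := by
    intro k hk
    by_contra ho
    rw [Int.not_even_iff_odd] at ho
    rw [ho.neg_one_zpow] at hk
    apply h2
    have : (1 : K) + 1 = 0 := by
      nth_rewrite 1 [← hk]
      ring
    rw [← this]; norm_num
  have hsq : ∀ r < D.nroots, hG (F := K) hD r (-1) ^ 2 = 1 := by
    intro r hr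
    rw [pow_two]
    apply eq_of_chi hD (mul_mem (hT r hr) (hT r hr)) (one_mem _)
    intro s hs
    rw [chi_mul hD (hT r hr) (hT r hr), hchi r hr s hs, chi_one, ← mul_zpow]
    simp
  have hinv : ∀ r < D.nroots, (hG (F := K) hD r (-1))⁻¹ = hG hD r (-1) := fun r hr =>
    inv_eq_of_mul_eq_one_left (by rw [← pow_two]; exact hsq r hr)
  -- the first good element
  set s1 : GL D.Idx K := hG hD a (-1) with hs1
  have hs1T : s1 ∈ D.diagonalSubgroup K := hT a ha.1
  have hwa : (w ⟨a, ha.1⟩ : ℕ) = D.neg a := hneg ⟨a, ha.1⟩ ha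
  have hna : D.neg a < D.nroots := hwa ▸ (w ⟨a, ha.1⟩).2
  have hs1g : Gd F m s1 := by
    refine ⟨hs1T, ?_, ?_⟩
    · rw [hs1, hsq a ha.1]
      exact one_mem _
    · have e1 := hw.conj_h hD hmN hneg1 ⟨a, ha.1⟩
      rw [hwa] at e1
      have e2 : hG (F := K) hD (D.neg a) (-1) = hG hD a (-1) := by
        apply eq_of_chi hD (hT _ hna) (hT _ ha.1)
        intro s hs
        rw [hchi _ hna s hs, hchi _ ha.1 s hs, h5.neg_left ha.1, zpow_neg, ← inv_zpow]
        norm_num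
      have e3 : m * s1 * m⁻¹ = s1 := by
        rw [hs1, ← e2]
        rw [← e2] at e1
        exact e2 ▸ e1
      rw [e3, mul_inv_cancel]
      exact one_mem _
  have hcb : chi D K s1 b ≠ 1 := by
    rw [hs1, hchi a ha.1 b hb.1]
    exact fun h1 => hab (hEv _ h1)
  have hs1Z : s1 ∉ Zf F := fun h1 => hcb (hb.2 _ h1)
  have hca : chi D K s1 a = 1 := by
    rw [hs1, hchi a ha.1 a ha.1, h5.self ha.1]
    norm_num
  -- the second element
  obtain ⟨r, hr, hra⟩ := h5.exists_odd ha.1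
  set r' : ℕ := (w ⟨r, hr⟩ : ℕ) with hr'
  have hr'n : r' < D.nroots := (w ⟨r, hr⟩).2
  have hmr : m * hG (F := K) hD r (-1) * m⁻¹ = hG hD r' (-1) := hw.conj_h hD hmN hneg1 ⟨r, hr⟩
  have hmr' : m * hG (F := K) hD r' (-1) * m⁻¹ = hG hD r (-1) := by
    have e1 := hw.conj_h hD hmN hneg1 (w ⟨r, hr⟩)
    rw [hww] at e1
    exact e1
  set y : GL D.Idx K := hG hD r' (-1) * hG hD r (-1) with hy
  have hyT : y ∈ D.diagonalSubgroup K := mul_mem (hT _ hr'n) (hT _ hr)
  by_cases hyZ : y ∈ Zf F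
  · -- `h_r(-1)` is good
    have hg2 : Gd F m (hG hD r (-1)) := by
      refine ⟨hT r hr, ?_, ?_⟩
      · rw [hsq r hr]
        exact one_mem _
      · rw [hmr, hinv r hr]
        exact hyZ
    have hc2 : chi D K (hG hD r (-1)) a ≠ 1 := by
      rw [hchi r hr a ha.1]
      exact fun h1 => hra (hEv _ h1)
    refine h.three hg hgN hgm hmZ hs1g hg2 hs1Z (fun h1 => hc2 (ha.2 _ h1)) (fun h1 => ?_) ha
    have h3 := ha.2 _ h1
    rw [chi_mul hD hs1T (hT r hr), hca, one_mul] at h3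
    exact hc2 h3
  · -- `y` is good
    have hg2 : Gd F m y := by
      refine ⟨hyT, ?_, ?_⟩
      · have e : y ^ 2 = hG (F := K) hD r' (-1) ^ 2 * hG hD r (-1) ^ 2 := by
          rw [hy, pow_two, pow_two, pow_two]
          calc _ = hG (F := K) hD r' (-1) * (hG hD r (-1) * hG hD r' (-1)) * hG hD r (-1) := by group
            _ = hG (F := K) hD r' (-1) * (hG hD r' (-1) * hG hD r (-1)) * hG hD r (-1) := by
                rw [tor_comm hD (hT _ hr) (hT _ hr'n)]
            _ = _ := by group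
        rw [e, hsq _ hr'n, hsq _ hr, one_mul]
        exact one_mem _
      · have e : m * y * m⁻¹ = y := by
          calc m * y * m⁻¹ = (m * hG (F := K) hD r' (-1) * m⁻¹) * (m * hG hD r (-1) * m⁻¹) := by rw [hy]; group
            _ = y := by rw [hmr, hmr', hy, tor_comm hD (hT _ hr) (hT _ hr'n)]
        rw [e, mul_inv_cancel]
        exact one_mem _
    have hyb : chi D K y b = 1 := by
      rw [hy, chi_mul hD (hT _ hr'n) (hT _ hr), hchi _ hr'n b hb.1, hchi _ hr b hb.1]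
      have e1 : pr D r' b = - pr D r b := by
        have e2 := hw.pr (w ⟨r, hr⟩) ⟨b, hb.1⟩
        rw [hww, hneg ⟨b, hb.1⟩ hb] at e2
        rw [hr', ← e2]
        show pr D r (D.neg b) = _
        rw [h5.neg_right hb.1]
      rw [e1, zpow_neg, inv_mul_cancel₀ (zpow_ne_zero _ hneg1)]
    refine h.three hg hgN hgm hmZ hs1g hg2 hs1Z hyZ (fun h1 => ?_) ha
    have h3 := hb.2 _ h1
    rw [chi_mul hD hs1T hyT, hyb, mul_one] at h3
    exact hcb h3

/-- The final form: `F` a least bad group without root subgroups. Inputs: LT2, the action of `N_F(T)` on the roots, `C(T) = T`,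
two non-orthogonal, non-proportional roots in `Psi`. -/
theorem noEl_two (h5 : Five D) (hq : 13 ≤ Fintype.card K) (h2 : (2 : K) ≠ 0) (h : MinBad D K F) (he : SF D K F = ∅)
    (lt2 : ∀ g ∈ F, (∀ t ∈ D.diagonalSubgroup K, g * t * g⁻¹ ∈ normalizer (D.diagonalSubgroup K : Set (GL D.Idx K))) →
      g ∈ normalizer (D.diagonalSubgroup K : Set (GL D.Idx K)))
    (act : ∀ n ∈ F, n ∈ normalizer (D.diagonalSubgroup K : Set (GL D.Idx K)) →
      ∃ w : Equiv.Perm (Fin D.nroots), Afford D K n w)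
    (self : ∀ x ∈ F, (∀ t ∈ D.diagonalSubgroup K, x * t = t * x) → x ∈ D.diagonalSubgroup K)
    (hr : ∃ a ∈ Psi D K F, ∃ b ∈ Psi D K F, b ≠ a ∧ b ≠ D.neg a ∧ pr D a b ≠ 0) : NoElF D K F 2 := by
  have hS : Sit D K F :=
    { five := h5
      card := hq
      tor := h.tor
      act := act
      ti := fun t ht hZ g hg hgt => ti0 h5.inList h he lt2 ht hg hgt hZ
      self := self }
  exact hS.noEl_two h2 (h5.exists_odd_pair (fun a ha => ha.1) hr)

end Cfsg.Agent.H876.OT
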