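import Cfsg.Agent.H175.OT.Uni
import Cfsg.Agent.H175.OT.P
import Cfsg.Agent.H274.OT.BT
import Cfsg.Agent.H3.OT.Weyl
import Cfsg.Agent.H428.OT.LTC
import Cfsg.Agent.H893.OT.KPrime
import Cfsg.Agent.H48.OT.PsiIrr
import Cfsg.Agent.H650.OT.SFC
import Cfsg.Agent.H460.OT.BruConc

/-!
# S2539, part 5 (A): `S_F ∩ -S_F = ∅` (helper876)

The unipotent context `UCtx` of helper175 for `T ≤ M_F ≤ F`, and the exclusion of bad pairs.
-/

set_option autoImplicit false
set_option linter.unusedSectionVars false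

namespace Cfsg.Agent.H876.OT.Short

open Subgroup Cfsg.Lie Cfsg.Agent.H412.OT Cfsg.Agent.H186.OT
open Cfsg.Agent.ChevalleyStructure Cfsg.Agent.ChevalleyStructure.Elts
open Cfsg.Agent.H175.OT (UCtx)

universe u

variable {D : ChevalleyDatum} {K : Type u} [Field K] [Fintype K] {p : ℕ} {F : Subgroup (GL D.Idx K)}

/-- normalisers of subgroups of `F` -/
theorem mem_norm_sub {G : Type*} [Group G] {F H : Subgroup G} (hH : H ≤ F) {x : F} :
    x ∈ normalizer ((H.subgroupOf F : Subgroup F) : Set F) ↔ (x : G) ∈ normalizer (H : Set G) := by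
  rw [mem_normalizer_iff, mem_normalizer_iff]
  constructor
  · intro h t
    constructor
    · intro ht
      exact (h ⟨t, hH ht⟩).1 ht
    · intro ht
      have h1 : t ∈ F := by
        have h2 : (x : G)⁻¹ * (x * t * (x : G)⁻¹) * x = t := by group
        rw [← h2]
        exact mul_mem (mul_mem (inv_mem x.2) (hH ht)) x.2
      exact (h ⟨t, h1⟩).2 ht
  · intro h t
    exact h t

/-- a finite subgroup: `x H x⁻¹ ≤ H` gives `x ∈ N(H)` -/
theorem mem_norm_of_le {G : Type*} [Group G] {H : Subgroup G} [Finite H] {x : G} (h : ∀ t ∈ H, x * t * x⁻¹ ∈ H) :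
    x ∈ normalizer (H : Set G) := Cfsg.Agent.H175.OT.mem_normalizer_of_le h

variable [Fact p.Prime] [CharP K p]

/-- `D_F` is a `p`-group -/
theorem isPGroup_DF (hy : Hyp K p D) (h : MinBad D K F) (hanti : ∀ r ∈ SF D K F, D.neg r ∉ SF D K F) :
    IsPGroup p ↥(DF D K F) := by
  obtain ⟨P, -, hP, -, -, hr, -⟩ := H460.OT.GS_struct (p := p) (H274.OT.mem7 hy.mem) (H274.OT.card13 hy) h.tor
    (H650.OT.SF_closed hy h.le)
  exact hP.to_le (iSup₂_le fun r hr' => hr r hr' (hanti r hr'))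

theorem MF_le_norm (hy : Hyp K p D) (h : MinBad D K F) : MF D K F ≤ normalizer (DF D K F : Set (GL D.Idx K)) :=
  sup_le le_normalizer (H274.OT.norm_le_normalizer_DF hy h.le)

theorem cop_tor (hy : Hyp K p D) {H : Subgroup (GL D.Idx K)} (hH : IsPGroup p ↥H) :
    (Nat.card H).Coprime (Nat.card (D.diagonalSubgroup K)) := by
  obtain ⟨n, hn⟩ := IsPGroup.iff_card.1 hH
  rw [hn]
  refine Nat.Coprime.pow_left _ ?_
  rw [Nat.Prime.coprime_iff_not_dvd Fact.out]
  intro hp
  obtain ⟨⟨t, ht⟩, ho⟩ := exists_prime_orderOf_dvd_card' p hp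
  rw [Subgroup.orderOf_mk] at ho
  have h1 : t ^ p = 1 := by rw [← ho]; exact pow_orderOf_eq_one t
  have h2 : t = 1 := by
    refine H175.OT.eq_of_chi hy.inList ht (one_mem _) fun r _ => ?_
    have h3 : chi D K t r ^ p = 1 := by
      rw [← H175.OT.chi_pow hy.inList ht, h1, chi_one]
    rw [chi_one]
    have h4 : (chi D K t r - 1) ^ p = 0 := by
      rw [sub_pow_char, h3, one_pow, sub_self]
    exact sub_eq_zero.1 (pow_eq_zero_iff (Nat.Prime.ne_zero Fact.out) |>.1 h4)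
  rw [h2, orderOf_one] at ho
  exact (Nat.Prime.one_lt (Fact.out (p := p.Prime))).ne ho

/-- the unipotent context -/
theorem uctx (hy : Hyp K p D) (hp : p ≠ 2) (h : MinBad D K F) (hne : (SF D K F).Nonempty)
    (hanti : ∀ r ∈ SF D K F, D.neg r ∉ SF D K F) :
    UCtx ((D.diagonalSubgroup K).subgroupOf F) ((DF D K F).subgroupOf F) ((MF D K F).subgroupOf F) := by
  have hP := isPGroup_DF hy h hanti
  have hD := hy.inList
  have hDFF : DF D K F ≤ F := DF_le F
  have hcard : Nat.card ((DF D K F).subgroupOf F) = Nat.card (DF D K F) :=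
    Nat.card_congr (subgroupOfEquivOfLe hDFF).toEquiv
  have hcardT : Nat.card ((D.diagonalSubgroup K).subgroupOf F) = Nat.card (D.diagonalSubgroup K) :=
    Nat.card_congr (subgroupOfEquivOfLe h.tor).toEquiv
  have hDF1 : DF D K F ≠ ⊥ := by
    intro e
    obtain ⟨r, hr⟩ := hne
    have h1 : D.rootSubgroup K r ≤ ⊥ := e ▸ rootSubgroup_le_DF hr
    exact H274.OT.root_ne_bot hD hr.1 (le_bot_iff.1 h1)
  have hNDF : F ⊓ normalizer (DF D K F : Set (GL D.Idx K)) ≤ MF D K F :=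
    h.loc hy hDFF hP hDF1 ((tor_le_MF h.tor).trans (MF_le_norm hy h))
  refine
    { comm := ?_, TM := ?_, UM := ?_, NM := ?_, dec := ?_, nU := ?_, nU' := ?_, ovr := ?_, ne := ?_, nM := ?_,
      cT := ?_, cop := ?_, odd := ?_, sol := ?_ }
  · intro s hs t ht
    exact Subtype.ext (tor_comm hD (mem_subgroupOf.1 hs) (mem_subgroupOf.1 ht))
  · exact fun t ht => mem_subgroupOf.2 (tor_le_MF h.tor (mem_subgroupOf.1 ht))
  · exact fun t ht => mem_subgroupOf.2 (DF_le_MF F (mem_subgroupOf.1 ht))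
  · intro x hx
    rw [mem_norm_sub h.tor] at hx
    exact mem_subgroupOf.2 (norm_le_MF F ⟨x.2, hx⟩)
  · intro m hm
    obtain ⟨d, hd, n, hn, hn', e⟩ := (H274.OT.mem_MF hy h.le).1 (mem_subgroupOf.1 hm)
    exact ⟨⟨d, hDFF hd⟩, mem_subgroupOf.2 hd, ⟨n, hn⟩, (mem_norm_sub h.tor).2 hn', Subtype.ext e⟩
  · intro x hx
    rw [mem_norm_sub hDFF]
    exact MF_le_norm hy h (mem_subgroupOf.1 hx)
  · intro x hx
    rw [mem_norm_sub hDFF] at hx
    exact mem_subgroupOf.2 (hNDF ⟨x.2, hx⟩)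
  · intro H hTH hH x hx
    have h1 : D.diagonalSubgroup K ≤ H.map F.subtype := fun t ht => ⟨⟨t, h.tor ht⟩, hTH (mem_subgroupOf.2 ht), rfl⟩
    have h2 : H.map F.subtype ≤ F := by
      rintro _ ⟨y, -, rfl⟩
      exact y.2
    have h3 : H.map F.subtype < F := by
      refine lt_of_le_of_ne h2 fun e => hH (eq_top_iff.2 fun y _ => ?_)
      have h4 : (y : GL D.Idx K) ∈ H.map F.subtype := by rw [e]; exact y.2
      obtain ⟨z, hz, e2⟩ := h4
      rwa [← Subtype.ext e2]
    exact mem_subgroupOf.2 (h.le_MF_of_lt h1 h3 ⟨x, hx, rfl⟩)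
  · intro e
    have h1 := h.MF_lt hy
    refine h1.not_ge fun x hx => ?_
    have h2 : (⟨x, hx⟩ : F) ∈ (MF D K F).subgroupOf F := by rw [e]; exact mem_top _
    exact mem_subgroupOf.1 h2
  · intro g hg
    rw [mem_norm_sub (MF_le F)] at hg
    have hconj : ∀ x ∈ DF D K F, (g : GL D.Idx K) * x * (g : GL D.Idx K)⁻¹ ∈ DF D K F := by
      have h1 : (DF D K F).map (MulAut.conj (g : GL D.Idx K)).toMonoidHom ≤ DF D K F := by
        refine h.le_DF hy ?_ (hP.map _) ?_
        · rintro _ ⟨x, hx, rfl⟩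
          exact F.mul_mem (F.mul_mem g.2 (hDFF hx)) (F.inv_mem g.2)
        · intro t ht
          have ht' : (g : GL D.Idx K)⁻¹ * t * g ∈ MF D K F := by
            have := (mem_normalizer_iff.1 (inv_mem hg) t).1 (tor_le_MF h.tor ht)
            rwa [inv_inv] at this
          have h2 := MF_le_norm hy h ht'
          rw [mem_normalizer_iff]
          have key : ∀ s : GL D.Idx K, (g : GL D.Idx K)⁻¹ * s * g ∈ normalizer (DF D K F : Set (GL D.Idx K)) →
              ∀ y ∈ (DF D K F).map (MulAut.conj (g : GL D.Idx K)).toMonoidHom,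
                s * y * s⁻¹ ∈ (DF D K F).map (MulAut.conj (g : GL D.Idx K)).toMonoidHom := by
            rintro s hs _ ⟨x, hx, rfl⟩
            refine ⟨((g : GL D.Idx K)⁻¹ * s * g) * x * ((g : GL D.Idx K)⁻¹ * s * g)⁻¹, (mem_normalizer_iff.1 hs x).1 hx, ?_⟩
            change (g : GL D.Idx K) * (((g : GL D.Idx K)⁻¹ * s * g) * x * ((g : GL D.Idx K)⁻¹ * s * g)⁻¹) *
              (g : GL D.Idx K)⁻¹ = s * ((g : GL D.Idx K) * x * (g : GL D.Idx K)⁻¹) * s⁻¹
            group
          intro y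
          refine ⟨key t h2 y, fun hy' => ?_⟩
          have h3 : (g : GL D.Idx K)⁻¹ * t⁻¹ * g ∈ normalizer (DF D K F : Set (GL D.Idx K)) := by
            have := inv_mem h2
            have e : ((g : GL D.Idx K)⁻¹ * t * g)⁻¹ = (g : GL D.Idx K)⁻¹ * t⁻¹ * g := by group
            rwa [e] at this
          have h4 := key t⁻¹ h3 _ hy'
          have e : t⁻¹ * (t * y * t⁻¹) * t⁻¹⁻¹ = y := by group
          rwa [e] at h4
      exact fun x hx => h1 ⟨x, hx, rfl⟩
    exact mem_subgroupOf.2 (hNDF ⟨g.2, mem_norm_of_le hconj⟩)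
  · intro x hx
    refine mem_subgroupOf.2 (H428.OT.mem_tor_of_comm (by have := hy.card; omega) hD (h.le x.2) fun t ht => ?_)
    exact congrArg Subtype.val (hx ⟨t, h.tor ht⟩ (mem_subgroupOf.2 ht))
  · rw [hcard, hcardT]
    exact cop_tor hy hP
  · obtain ⟨n, hn⟩ := IsPGroup.iff_card.1 hP
    rw [hcard, hn]
    exact (Nat.Prime.odd_of_ne_two Fact.out hp).pow
  · have h1 : IsPGroup p ↥((DF D K F).subgroupOf F) := by
      rw [IsPGroup.iff_card] at hP ⊢
      rw [hcard]
      exact hP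
    have := h1.isNilpotent
    infer_instance

end Cfsg.Agent.H876.OT.Short
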