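import Cfsg.Agent.H876.OT.ShortA
import Cfsg.Agent.H460.OT.ShortB

/-!
# S2539, part 5 (A), bad pairs (helper876)

`no_bad` : there are no bad pairs `(f, b)` with `b ∈ N(T)`.
-/

set_option autoImplicit false
set_option linter.unusedSectionVars false

namespace Cfsg.Agent.H876.OT.Short

open Subgroup Cfsg.Lie Cfsg.Agent.H412.OT Cfsg.Agent.H186.OT
open Cfsg.Agent.ChevalleyStructure Cfsg.Agent.ChevalleyStructure.Elts Cfsg.Agent.ChevalleyStructure.NPerm
open Cfsg.Agent.H175.OT (UCtx)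

universe u

variable {D : ChevalleyDatum} {K : Type u} [Field K] [Fintype K] {p : ℕ} {F : Subgroup (GL D.Idx K)}
variable [Fact p.Prime] [CharP K p]

/-- the centre of `F` acts trivially on the root subgroups of `F` -/
theorem chi_of_mem_center (hD : InList D) {z : F} (hz : z ∈ center F) (hzT : (z : GL D.Idx K) ∈ D.diagonalSubgroup K)
    {r : ℕ} (hr : r ∈ SF D K F) : chi D K (z : GL D.Idx K) r = 1 := by
  have h1 : xG hD r (1 : K) ∈ F := hr.2 (xG_mem_rootSubgroup hD _ _)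
  have h2 := congrArg Subtype.val (mem_center_iff.1 hz ⟨_, h1⟩)
  change xG hD r (1 : K) * (z : GL D.Idx K) = (z : GL D.Idx K) * xG hD r (1 : K) at h2
  have h3 := tor_conj_xG hD hzT hr.1 (1 : K)
  rw [← h2, mul_inv_cancel_right, mul_one] at h3
  exact (xG_injective hD hr.1 h3).symm

/-- an element of `F ∩ N(T)` permutes the roots of `S_F` -/
theorem perm_SF (hD : InList D) {n : ↥(D.monomialSubgroup K)} (hn : (n : GL D.Idx K) ∈ F) {r : Fin D.nroots}
    (hr : (r : ℕ) ∈ SF D K F) : ((permHom hD K n r : Fin D.nroots) : ℕ) ∈ SF D K F := by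
  refine ⟨Fin.is_lt _, ?_⟩
  have h2 := conj_permHom hD n r
  rw [← h2]
  rintro _ ⟨x, hx, rfl⟩
  exact F.mul_mem (F.mul_mem hn (hr.2 hx)) (F.inv_mem hn)

/-- **No bad pairs with `b ∈ N(T)`.** -/
theorem no_bad (hy : Hyp K p D) (hDD : D = chevF4 ∨ D = chevG2) (h : MinBad D K F)
    (hne : (SF D K F).Nonempty) (hanti : ∀ r ∈ SF D K F, D.neg r ∉ SF D K F)
    (hsh : H460.OT.Short.Sh D (SF D K F))
    (UC : UCtx ((D.diagonalSubgroup K).subgroupOf F) ((DF D K F).subgroupOf F) ((MF D K F).subgroupOf F))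
    {f b : F} (hb : UCtx.Bad ((D.diagonalSubgroup K).subgroupOf F) ((MF D K F).subgroupOf F) f b)
    (hbN : b ∈ normalizer (((D.diagonalSubgroup K).subgroupOf F : Subgroup F) : Set F)) : False := by
  have hD := hy.inList
  have hq := hy.card
  have hbN' : (b : GL D.Idx K) ∈ normalizer (D.diagonalSubgroup K : Set (GL D.Idx K)) :=
    (mem_norm_sub h.tor).1 hbN
  have hbm := H3.OT.mem_monomial_of_norm hD (by rw [Nat.card_eq_fintype_card]; omega) (h.le b.2) hbN'
  obtain ⟨n, hn⟩ : ∃ n : ↥(D.monomialSubgroup K), (n : GL D.Idx K) = b := ⟨⟨b, hbm⟩, rfl⟩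
  have hnF : (n : GL D.Idx K) ∈ F := by rw [hn]; exact b.2
  -- `w² = 1`
  have hb2 : ((b ^ 2 : F) : GL D.Idx K) ∈ D.diagonalSubgroup K := mem_subgroupOf.1 (UC.center_le hb.sq)
  have hw2 : ∀ r, permHom hD K n (permHom hD K n r) = r := by
    have h1 : permHom hD K (n * n) = 1 := by
      apply permHom_diagonal hD
      have h3 : ((n * n : ↥(D.monomialSubgroup K)) : GL D.Idx K) = ((b ^ 2 : F) : GL D.Idx K) := by
        rw [Subgroup.coe_mul, Subgroup.coe_pow, hn, pow_two]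
      rw [h3]
      exact hb2
    intro r
    rw [← Equiv.Perm.mul_apply, ← map_mul, h1]
    rfl
  obtain ⟨g, hg, s, hs, hgs⟩ := H460.OT.Short.fixed_anti hDD hsh hanti hne
    (w := fun r => permHom hD K n r) (fun r s => H3.OT.pr_perm hD n r s) hw2 (fun r hr => perm_SF hD hnF hr)
  have hg' : permHom hD K n g = g := hg
  -- `h_g(c)` commutes with `b`
  have hcomm : ∀ c : K, c ≠ 0 → (b : GL D.Idx K) * hG hD g c = hG hD g c * b := by
    intro c hc
    rw [← mul_inv_eq_iff_eq_mul]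
    apply H893.OT.eq_of_chi hD ((mem_normalizer_iff.1 hbN' _).1 (hG_mem hD g.2 hc)) (hG_mem hD g.2 hc)
    intro x hx
    obtain ⟨y, hy'⟩ := (permHom hD K n).surjective ⟨x, hx⟩
    have e : x = ((permHom hD K n y : Fin D.nroots) : ℕ) := by rw [hy']
    rw [e, ← hn, H3.OT.chi_perm hD n (hG_mem hD g.2 hc), chi_hG hD g.2 y.2 hc, chi_hG hD g.2 (Fin.is_lt _) hc]
    congr 1
    have h1 := H3.OT.pr_perm hD n g y
    rw [hg'] at h1
    exact h1.symm
  -- the conjugates `f h_g(c) f⁻¹` lie in `M`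
  have htZ : f * b * f⁻¹ ∉ center F := by
    intro h1
    have h2 := Normal.conj_mem inferInstance _ h1 f⁻¹
    have e : f⁻¹ * (f * b * f⁻¹) * f⁻¹⁻¹ = b := by group
    rw [e] at h2
    exact hb.ne h2
  have hM : ∀ x : F, x * b = b * x → f * x * f⁻¹ ∈ (MF D K F).subgroupOf F := by
    intro x hx
    refine UC.cent_le hb.tor htZ ?_
    calc f * x * f⁻¹ * (f * b * f⁻¹) = f * (x * b) * f⁻¹ := by group
      _ = f * (b * x) * f⁻¹ := by rw [hx]
      _ = f * b * f⁻¹ * (f * x * f⁻¹) := by group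
  have hHF : Hr D K g ≤ F := (Hr_le hD g.2).trans h.tor
  obtain ⟨H, hH⟩ : ∃ H : Subgroup F, H = ((Hr D K g).subgroupOf F).map (MulAut.conj f).toMonoidHom := ⟨_, rfl⟩
  have hHM : H ≤ (MF D K F).subgroupOf F := by
    rw [hH]
    rintro _ ⟨x, hx, rfl⟩
    refine hM x (Subtype.ext ?_)
    obtain ⟨c, hc, e⟩ := (H428.OT.mem_Hr_iff hD g.2).1 (mem_subgroupOf.1 hx)
    show (x : GL D.Idx K) * b = b * x
    rw [e]
    exact (hcomm c hc).symm
  have hcop : (Nat.card ((DF D K F).subgroupOf F)).Coprime (Nat.card H) := by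
    refine Nat.Coprime.coprime_dvd_right ?_ UC.cop
    have e1 : Nat.card H = Nat.card ((Hr D K g).subgroupOf F) := by
      rw [hH]
      exact Nat.card_congr (((Hr D K g).subgroupOf F).equivMapOfInjective _ (MulAut.conj f).injective).symm.toEquiv
    rw [e1]
    exact card_dvd_of_le (subgroupOf_mono F (Hr_le hD g.2))
  obtain ⟨v, hv, hvH⟩ := UC.exists_conj_norm hHM hcop
  obtain ⟨f', hf'⟩ : ∃ f' : F, f' = v * f := ⟨_, rfl⟩
  have hf'N : ∀ c : K, c ≠ 0 → (f' : GL D.Idx K) * hG hD g c * (f' : GL D.Idx K)⁻¹ ∈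
      normalizer (D.diagonalSubgroup K : Set (GL D.Idx K)) := by
    intro c hc
    obtain ⟨x, hx⟩ : ∃ x : F, (x : GL D.Idx K) = hG hD g c := ⟨⟨_, hHF (hG_mem_Hr hD g hc)⟩, rfl⟩
    have hxH : f * x * f⁻¹ ∈ H := by
      rw [hH]
      exact ⟨x, mem_subgroupOf.2 (by rw [hx]; exact hG_mem_Hr hD g hc), rfl⟩
    have h1 := hvH _ hxH
    rw [mem_norm_sub h.tor] at h1
    have e : v * (f * x * f⁻¹) * v⁻¹ = f' * x * f'⁻¹ := by
      rw [hf']
      group
    rw [e, Subgroup.coe_mul, Subgroup.coe_mul, Subgroup.coe_inv, hx] at h1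
    exact h1
  obtain ⟨γ, hγ⟩ := H893.OT.exists_gen K
  have hl : ∀ r ∈ [(g : ℕ)], r < D.nroots := by
    intro r hr
    rw [List.mem_singleton.1 hr]
    exact g.2
  have ehL : ∀ c : K, H893.OT.hL hD [(g : ℕ)] c = hG hD g c := by
    intro c
    rw [H893.OT.hL, List.map_cons, List.map_nil, List.prod_cons, List.prod_nil, mul_one]
  have hγ0 : ((γ ^ 2 : Kˣ) : K) ≠ 0 := (γ ^ 2).ne_zero
  have hgF : hG hD g ((γ ^ 2 : Kˣ) : K) ∈ F := h.tor (hG_mem hD g.2 hγ0)
  have hlau : (f' : GL D.Idx K) * hG hD g ((γ ^ 2 : Kˣ) : K) * (f' : GL D.Idx K)⁻¹ ∈ D.diagonalSubgroup K := by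
    refine H428.OT.mem_tor_of_comm (by omega) hD (h.le (mul_mem (mul_mem f'.2 hgF) (inv_mem f'.2))) ?_
    have h3 := H893.OT.lau_sq (T := D.diagonalSubgroup K) (H893.OT.isDiag hD) (a := -3) (D := 6) (by omega)
      (e := H893.OT.ex D [(g : ℕ)]) (fun x => by
        rcases x with i | x
        · simp only [H893.OT.ex, Sum.elim_inl]
          constructor <;> norm_num
        · simp only [H893.OT.ex, Sum.elim_inr, List.map_cons, List.map_nil, List.sum_cons, List.sum_nil, add_zero]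
          have h4 := abs_le.1 (H428.OT.abs_pr_le_three hD g.2 x.2)
          constructor
          · exact h4.1
          · have := h4.2
            push_cast
            linarith) (f' : GL D.Idx K)
      (fun c => by
        rw [H893.OT.dco_eq hD hl, ehL]
        exact hf'N c c.ne_zero) γ
    rwa [H893.OT.dco_eq hD hl, ehL] at h3
  have hzZ : (⟨_, hgF⟩ : F) ∉ center F := by
    intro h7
    have h8 := chi_of_mem_center hD h7 (hG_mem hD g.2 hγ0) hs
    change chi D K (hG hD g ((γ ^ 2 : Kˣ) : K)) s = 1 at h8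
    rw [chi_hG hD g.2 hs.1 hγ0, Units.val_pow_eq_pow_val, ← zpow_natCast, ← zpow_mul] at h8
    have h9 := H893.OT.dvd_of_zpow hγ h8
    have h10 := abs_le.1 (H428.OT.abs_pr_le_three hD g.2 hs.1)
    have h12 : (((2 : ℕ) : ℤ) * pr D g s) = 0 := by
      apply Int.eq_zero_of_abs_lt_dvd h9
      rw [abs_lt]
      push_cast
      constructor <;> omega
    push_cast at h12
    omega
  have hf'M : f' ∈ (MF D K F).subgroupOf F :=
    UC.mem_of_conj (t := ⟨_, hgF⟩) (mem_subgroupOf.2 (hG_mem hD g.2 hγ0)) hzZ (mem_subgroupOf.2 hlau)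
  apply hb.nf
  have h1 := mul_mem (inv_mem (UC.UM hv)) hf'M
  rw [hf', inv_mul_cancel_left] at h1
  exact h1

end Cfsg.Agent.H876.OT.Short
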