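import Cfsg.Agent.H876.OT.ShortA
import Cfsg.Agent.H460.OT.ShortB

/-!
# S2539, part 5 (A), one root (helper876)

`exists_psi` : `r ∈ S_F`, `-r ∉ S_F`: some root of `Ψ` other than `±r` is not orthogonal to `r`.
-/

set_option autoImplicit false
set_option linter.unusedSectionVars false

namespace Cfsg.Agent.H876.OT.Short

open Subgroup Cfsg.Lie Cfsg.Agent.H412.OT Cfsg.Agent.H186.OT Cfsg.Agent.H194.OT
open Cfsg.Agent.ChevalleyStructure Cfsg.Agent.ChevalleyStructure.Elts Cfsg.Agent.ChevalleyStructure.NPerm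
open Cfsg.Agent.ChevalleyStructure.SL2Hom (up lo)
open Cfsg.Agent.H175.OT (UCtx)

universe u

section SL2

variable {K : Type u} [Field K]

@[simp] theorem up00 (t : K) : (up t : Matrix.SpecialLinearGroup (Fin 2) K).1 0 0 = 1 := rfl
@[simp] theorem up01 (t : K) : (up t : Matrix.SpecialLinearGroup (Fin 2) K).1 0 1 = t := rfl
@[simp] theorem up10 (t : K) : (up t : Matrix.SpecialLinearGroup (Fin 2) K).1 1 0 = 0 := rfl
@[simp] theorem up11 (t : K) : (up t : Matrix.SpecialLinearGroup (Fin 2) K).1 1 1 = 1 := rfl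
@[simp] theorem lo00 (t : K) : (lo t : Matrix.SpecialLinearGroup (Fin 2) K).1 0 0 = 1 := rfl
@[simp] theorem lo01 (t : K) : (lo t : Matrix.SpecialLinearGroup (Fin 2) K).1 0 1 = 0 := rfl
@[simp] theorem lo10 (t : K) : (lo t : Matrix.SpecialLinearGroup (Fin 2) K).1 1 0 = t := rfl
@[simp] theorem lo11 (t : K) : (lo t : Matrix.SpecialLinearGroup (Fin 2) K).1 1 1 = 1 := rfl

/-- a subgroup of `SL₂(K)` containing the upper unitriangular matrices and a matrix that is not upper triangular contains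
the lower unitriangular matrices -/
theorem lo_mem {L : Subgroup (Matrix.SpecialLinearGroup (Fin 2) K)} (hup : ∀ t, up t ∈ L)
    {g : Matrix.SpecialLinearGroup (Fin 2) K} (hg : g ∈ L) (h10 : g.1 1 0 ≠ 0) (t : K) : lo t ∈ L := by
  have hdet := det2 g
  obtain ⟨w, hw⟩ : ∃ w, w = up (-(g.1 0 0 / g.1 1 0)) * g * up (-(g.1 1 1 / g.1 1 0)) := ⟨_, rfl⟩
  have hwL : w ∈ L := by rw [hw]; exact mul_mem (mul_mem (hup _) hg) (hup _)
  have w00 : w.1 0 0 = 0 := by
    rw [hw]
    simp only [mul2, up00, up01, up10]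
    field_simp
    ring
  have w01 : w.1 0 1 = -(g.1 1 0)⁻¹ := by
    rw [hw]
    simp only [mul2, up00, up01, up11]
    field_simp
    linear_combination -hdet
  have w10 : w.1 1 0 = g.1 1 0 := by
    rw [hw]
    simp only [mul2, up00, up10, up11]
    ring
  have w11 : w.1 1 1 = 0 := by
    rw [hw]
    simp only [mul2, up01, up10, up11]
    field_simp
    ring
  have e : lo t * w = w * up (-(t / g.1 1 0 ^ 2)) := by
    apply ext2 <;> simp only [mul2, up00, up01, up10, up11, lo00, lo01, lo10, lo11, w00, w01, w10, w11]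
    · ring
    · ring
    · ring
    · field_simp
  have e2 : lo t = w * up (-(t / g.1 1 0 ^ 2)) * w⁻¹ := by
    rw [← e, mul_inv_cancel_right]
  rw [e2]
  exact mul_mem (mul_mem hwL (hup _)) (inv_mem hwL)

/-- upper triangular matrices normalise the upper unitriangular matrices -/
theorem up_conj {A : Matrix.SpecialLinearGroup (Fin 2) K} (h10 : A.1 1 0 = 0) (t : K) :
    A * up t * A⁻¹ = up (A.1 0 0 ^ 2 * t) := by
  have hdet := det2 A
  rw [h10, mul_zero, sub_zero] at hdet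
  rw [mul_inv_eq_iff_eq_mul]
  apply ext2 <;> simp only [mul2, up00, up01, up10, up11, h10]
  · ring
  · linear_combination (-A.1 0 0 * t) * hdet
  · ring
  · ring

theorem up_conj_10 (A : Matrix.SpecialLinearGroup (Fin 2) K) (h10 : A.1 1 0 ≠ 0) :
    (A * up 1 * A⁻¹).1 1 0 ≠ 0 := by
  intro h0
  obtain ⟨B, hB⟩ : ∃ B, B = A * up 1 * A⁻¹ := ⟨_, rfl⟩
  rw [← hB] at h0
  have e : B * A = A * up 1 := by rw [hB, inv_mul_cancel_right]
  have e1 : (B * A).1 1 0 = (A * up 1).1 1 0 := by rw [e]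
  have e2 : (B * A).1 1 1 = (A * up 1).1 1 1 := by rw [e]
  simp only [mul2, up00, up01, up10, up11, h0] at e1 e2
  have e3 : (B.1 1 1 - 1) * A.1 1 0 = 0 := by linear_combination e1
  rcases mul_eq_zero.1 e3 with e4 | e4
  · exact h10 (by linear_combination A.1 1 1 * e4 - e2)
  · exact h10 e4

end SL2

variable {D : ChevalleyDatum} {K : Type u} [Field K] [Fintype K] {p : ℕ} {F : Subgroup (GL D.Idx K)}

/-- the centre of `F` acts trivially on the root subgroups of `F` -/
theorem chi_of_mem_Zf (hD : InList D) {z : GL D.Idx K} (hz : z ∈ Zf F) (hzT : z ∈ D.diagonalSubgroup K)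
    {r : ℕ} (hr : r ∈ SF D K F) : chi D K z r = 1 := by
  have h1 : xG hD r (1 : K) ∈ F := hr.2 (xG_mem_rootSubgroup hD _ _)
  have h2 := (mem_Zf.1 hz).2 _ h1
  have h3 := tor_conj_xG hD hzT hr.1 (1 : K)
  rw [← h2, mul_inv_cancel_right, mul_one] at h3
  exact (xG_injective hD hr.1 h3).symm

theorem Zf_le (hy : Hyp K p D) (h : MinBad D K F) : Zf F ≤ D.diagonalSubgroup K := by
  intro z hz
  obtain ⟨hz1, hz2⟩ := mem_Zf.1 hz
  refine H428.OT.mem_tor_of_comm (by have := hy.card; omega) hy.inList (h.le hz1) fun t ht => ?_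
  exact (hz2 t (h.tor ht)).symm

theorem SF_le_Psi (hy : Hyp K p D) (h : MinBad D K F) : SF D K F ⊆ Psi D K F := fun r hr =>
  ⟨hr.1, fun _ hz => chi_of_mem_Zf hy.inList hz (Zf_le hy h hz) hr⟩

variable [Fact p.Prime] [CharP K p]

/-- **`F ≤ G(Ψ)`** -/
theorem le_GS_Psi (hy : Hyp K p D) (h : MinBad D K F)
    (UC : UCtx ((D.diagonalSubgroup K).subgroupOf F) ((DF D K F).subgroupOf F) ((MF D K F).subgroupOf F)) :
    F ≤ GS D K (Psi D K F) := by
  have hD := hy.inList
  have hZ := Zf_le hy h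
  by_contra hno
  have hlt : F ⊓ GS D K (Psi D K F) < F :=
    lt_of_le_of_ne inf_le_left fun e => hno (inf_eq_left.1 e)
  have hTle : D.diagonalSubgroup K ≤ F ⊓ GS D K (Psi D K F) := le_inf h.tor (H3.OT.tor_le_GS _)
  have hleM := h.le_MF_of_lt hTle hlt
  apply UC.ne
  rw [eq_top_iff]
  intro f _
  refine UC.mem_of_conj_tor fun t ht => mem_subgroupOf.2 (hleM ⟨(f * t * f⁻¹).2, ?_⟩)
  have hfn : (f : GL D.Idx K) ∈ normalizer (GS D K (H3.OT.PsiZ D K (Zf F)) : Set (GL D.Idx K)) := by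
    refine H3.OT.cent_le_norm hD hZ (mem_inf.2 ⟨h.le f.2, mem_centralizer_iff.2 fun z hz => ?_⟩)
    exact ((mem_Zf.1 hz).2 f f.2).symm
  exact (mem_normalizer_iff.1 hfn _).1 (H3.OT.tor_le_GS _ (mem_subgroupOf.1 ht))

/-- **(2a)** -/
theorem exists_psi (hy : Hyp K p D) (h : MinBad D K F)
    (UC : UCtx ((D.diagonalSubgroup K).subgroupOf F) ((DF D K F).subgroupOf F) ((MF D K F).subgroupOf F))
    {r : ℕ} (hr : r ∈ SF D K F) (hnr : D.neg r ∉ SF D K F) :
    ∃ b ∈ Psi D K F, b ≠ r ∧ b ≠ D.neg r ∧ pr D r b ≠ 0 := by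
  by_contra hcon
  push Not at hcon
  have hD := hy.inList
  have hZ := Zf_le hy h
  have hrP : r ∈ Psi D K F := SF_le_Psi hy h hr
  have hnrP : D.neg r ∈ Psi D K F := H48.OT.psi_neg hD hZ hrP
  have hFG := le_GS_Psi hy h UC
  set P₁ : Set ℕ := {r, D.neg r} with hP₁
  set P₂ : Set ℕ := {b | b ∈ Psi D K F ∧ b ≠ r ∧ b ≠ D.neg r} with hP₂
  have h12 : P₁ ∪ P₂ = Psi D K F := by
    ext b
    constructor
    · rintro (hb | hb)
      · rcases hb with rfl | hb
        · exact hrP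
        · rw [Set.mem_singleton_iff.1 hb]
          exact hnrP
      · exact hb.1
    · intro hb
      by_cases h1 : b = r
      · exact Or.inl (Or.inl h1)
      · by_cases h2 : b = D.neg r
        · exact Or.inl (Or.inr h2)
        · exact Or.inr ⟨hb, h1, h2⟩
  have ho : ∀ a ∈ P₁, ∀ b ∈ P₂, pr D a b = 0 := by
    intro a ha b hb
    have h1 := hcon b hb.1 hb.2.1 hb.2.2
    rcases ha with rfl | ha
    · exact h1
    · rw [Set.mem_singleton_iff.1 ha, H460.OT.Short.pr_neg_left hD hr.1, h1, neg_zero]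
  have hr1 : r ∈ P₁ := Or.inl rfl
  have hr2 : D.neg r ∈ P₁ := Or.inr rfl
  -- `E` normalises `X_r`, `X_{-r}`
  have hE : ∀ x ∈ P₁, GS D K P₂ ≤ normalizer (D.rootSubgroup K x : Set (GL D.Idx K)) := by
    intro x hx
    have hxl : x < D.nroots := (h12 ▸ (Or.inl hx : x ∈ P₁ ∪ P₂) : x ∈ Psi D K F).1
    refine sup_le (fun t ht => ?_) (iSup₂_le fun b hb y hy' => ?_)
    · exact mem_norm_of_le fun y hy' => tor_conj_root hD ht hxl hy'
    · obtain ⟨u, rfl⟩ := (mem_rootSubgroup_iff hD b y).1 hy'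
      refine mem_norm_of_le fun z hz => ?_
      obtain ⟨t, rfl⟩ := (mem_rootSubgroup_iff hD x z).1 hz
      rw [← H48.OT.root_comm hD hZ h12 ho hx hb t u, mul_inv_cancel_right]
      exact hz
  have hDS : GS D K P₂ ≤ normalizer (H175.OT.DS D K r : Set (GL D.Idx K)) := by
    intro e he
    refine mem_norm_of_le ?_
    have h1 : H175.OT.DS D K r ≤ (H175.OT.DS D K r).comap (MulAut.conj e).toMonoidHom := by
      refine sup_le (fun x hx => ?_) (fun x hx => ?_)
      · exact (le_sup_left : D.rootSubgroup K r ≤ H175.OT.DS D K r)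
          ((mem_normalizer_iff.1 (hE r hr1 he) x).1 hx)
      · exact (le_sup_right : D.rootSubgroup K (D.neg r) ≤ H175.OT.DS D K r)
          ((mem_normalizer_iff.1 (hE _ hr2 he) x).1 hx)
    exact fun x hx => h1 hx
  have hle : GS D K (Psi D K F) ≤ H175.OT.DS D K r ⊔ GS D K P₂ := by
    refine sup_le ((H3.OT.tor_le_GS _).trans le_sup_right) (iSup₂_le fun b hb => ?_)
    rw [← h12] at hb
    rcases hb with hb | hb
    · refine le_trans ?_ le_sup_left
      rcases hb with rfl | hb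
      · exact le_sup_left
      · rw [Set.mem_singleton_iff.1 hb]
        exact le_sup_right
    · exact (H3.OT.root_le_GS hb).trans le_sup_right
  -- `F` normalises `X_r`
  have key : F ≤ normalizer (D.rootSubgroup K r : Set (GL D.Idx K)) := by
    intro f hf
    have h1 : f ∈ ((H175.OT.DS D K r ⊔ GS D K P₂ : Subgroup (GL D.Idx K)) : Set (GL D.Idx K)) := hle (hFG hf)
    rw [coe_mul_of_right_le_normalizer_left _ _ hDS, Set.mem_mul] at h1
    obtain ⟨d, hd, e, he, rfl⟩ := h1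
    obtain ⟨A, rfl⟩ := (H175.OT.mem_DS_iff hD hr.1).1 hd
    by_cases h10 : A.1 1 0 = 0
    · refine mul_mem (mem_norm_of_le fun x hx => ?_) (hE r hr1 he)
      obtain ⟨t, rfl⟩ := (mem_rootSubgroup_iff hD r x).1 hx
      rw [← ph_up hD hr.1, ← map_inv, ← map_mul, ← map_mul, up_conj h10, ph_up]
      exact xG_mem_rootSubgroup hD _ _
    · exfalso
      apply hnr
      refine ⟨neg_lt hD hr.1, fun x hx => ?_⟩
      obtain ⟨t, rfl⟩ := (mem_rootSubgroup_iff hD _ x).1 hx
      rw [← ph_lo hD hr.1]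
      refine lo_mem (L := F.comap (ph hD hr.1 K)) (fun t => ?_) (g := A * up 1 * A⁻¹) ?_ (up_conj_10 A h10) t
      · rw [mem_comap, ph_up]
        exact hr.2 (xG_mem_rootSubgroup hD _ _)
      · rw [mem_comap, map_mul, map_mul, map_inv, ph_up]
        have h2 : e⁻¹ * xG hD r 1 * e ∈ D.rootSubgroup K r := by
          have h3 := (mem_normalizer_iff.1 (inv_mem (hE r hr1 he)) (xG hD r (1 : K))).1 (xG_mem_rootSubgroup hD _ _)
          rwa [inv_inv] at h3
        have h4 := mul_mem (mul_mem hf (hr.2 h2)) (inv_mem hf)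
        have e5 : ph hD hr.1 K A * e * (e⁻¹ * xG hD r 1 * e) * (ph hD hr.1 K A * e)⁻¹ =
            ph hD hr.1 K A * xG hD r 1 * (ph hD hr.1 K A)⁻¹ := by group
        rwa [e5] at h4
  exact (h.MF_lt hy).not_ge ((le_inf le_rfl key).trans (h.root hy hr))

end Cfsg.Agent.H876.OT.Short
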