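import Cfsg.Agent.H876.OT.ShortBad
import Cfsg.Agent.H460.OT.ShortC
import Cfsg.Agent.H876.OT.ShortSingle

/-!
# S2539, part 5 (A): `S_F ∩ -S_F = ∅`, `S_F ≠ ∅`, no long roots, `p ≠ 2`: contradiction (helper876)

`short_empty`.
-/

set_option autoImplicit false
set_option linter.unusedSectionVars false

namespace Cfsg.Agent.H876.OT.Short

open Subgroup Cfsg.Lie Cfsg.Agent.H412.OT Cfsg.Agent.H186.OT
open Cfsg.Agent.ChevalleyStructure Cfsg.Agent.ChevalleyStructure.Elts Cfsg.Agent.ChevalleyStructure.NPerm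
open Cfsg.Agent.H175.OT (UCtx)

universe u

variable {D : ChevalleyDatum} {K : Type u} [Field K] [Fintype K] {p : ℕ} {F : Subgroup (GL D.Idx K)}

theorem neg_one_zpow_eq {k : ℤ} (h1 : (-1 : K) ≠ 1) : (-1 : K) ^ k = 1 ↔ Even k := by
  constructor
  · intro h
    by_contra hk
    rw [Int.not_even_iff_odd] at hk
    rw [hk.neg_one_zpow] at h
    exact h1 h
  · exact fun h => h.neg_one_zpow

theorem neg_one_zpow_iff {k l : ℤ} (h1 : (-1 : K) ≠ 1) (h : (-1 : K) ^ k = (-1 : K) ^ l) : Even k ↔ Even l := by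
  rw [← neg_one_zpow_eq h1, ← neg_one_zpow_eq h1, h]

/-- `h_a(-1)` in `F` -/
noncomputable def hm (hD : InList D) (h : MinBad D K F) {a : ℕ} (ha : a < D.nroots) : F :=
  ⟨hG hD a (-1), h.tor (hG_mem hD ha (neg_ne_zero.2 one_ne_zero))⟩

theorem hm_mem (hD : InList D) (h : MinBad D K F) {a : ℕ} (ha : a < D.nroots) :
    hm hD h ha ∈ (D.diagonalSubgroup K).subgroupOf F :=
  mem_subgroupOf.2 (hG_mem hD ha (neg_ne_zero.2 one_ne_zero))

theorem hm_sq (hD : InList D) (h : MinBad D K F) {a : ℕ} (ha : a < D.nroots) : hm hD h ha ^ 2 ∈ center F := by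
  have hne : (-1 : K) ≠ 0 := neg_ne_zero.2 one_ne_zero
  have h1 : hm hD h ha ^ 2 = 1 := by
    apply Subtype.ext
    change hG hD a (-1 : K) ^ 2 = 1
    refine H175.OT.eq_of_chi hD (pow_mem (hG_mem hD ha hne) _) (one_mem _) fun r hr => ?_
    rw [H175.OT.chi_pow hD (hG_mem hD ha hne), chi_one, chi_hG hD ha hr hne, ← zpow_natCast, ← zpow_mul]
    exact Even.neg_one_zpow (by simp)
  rw [h1]
  exact one_mem _

theorem hm_not_center (hD : InList D) (h : MinBad D K F) (h1 : (-1 : K) ≠ 1) {a : ℕ} (ha : a < D.nroots) {x : ℕ}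
    (hx : x ∈ Psi D K F) (hodd : Odd (pr D a x)) : hm hD h ha ∉ center F := by
  intro h2
  have h3 := hx.2 _ (coe_mem_Zf.2 h2)
  change chi D K (hG hD a (-1 : K)) x = 1 at h3
  rw [chi_hG hD ha hx.1 (neg_ne_zero.2 one_ne_zero), hodd.neg_one_zpow] at h3
  exact h1 h3

/-- conjugacy of `h_{a'}(-1)` and `h_a(-1)` in `M` modulo the centre gives a permutation of `S_F` -/
theorem exists_perm (hy : Hyp K p D) (h : MinBad D K F) (h1 : (-1 : K) ≠ 1)
    (UC : UCtx ((D.diagonalSubgroup K).subgroupOf F) ((DF D K F).subgroupOf F) ((MF D K F).subgroupOf F))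
    {a a' : ℕ} (ha : a < D.nroots) (ha' : a' < D.nroots) {m : F} (hm' : m ∈ (MF D K F).subgroupOf F)
    (hc : m * hm hy.inList h ha' * m⁻¹ * (hm hy.inList h ha)⁻¹ ∈ center F) :
    ∃ w : Equiv.Perm (Fin D.nroots), (∀ r s : Fin D.nroots, pr D (w r) (w s) = pr D r s) ∧
      (∀ r : Fin D.nroots, (r : ℕ) ∈ SF D K F → ((w r : Fin D.nroots) : ℕ) ∈ SF D K F) ∧
      ∀ r : Fin D.nroots, (r : ℕ) ∈ SF D K F → (Even (pr D a (w r)) ↔ Even (pr D a' r)) := by
  have hD := hy.inList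
  have hq := hy.card
  have hne : (-1 : K) ≠ 0 := neg_ne_zero.2 one_ne_zero
  obtain ⟨v, hv, n, hn, rfl⟩ := UC.dec m hm'
  set s := hm hD h ha' with hs
  set t := hm hD h ha with ht
  have hsT := hm_mem hD h ha'
  have htT := hm_mem hD h ha
  set z := v * n * s * (v * n)⁻¹ * t⁻¹ with hz
  have hzT := UC.center_le hc
  have hnT : n * s * n⁻¹ ∈ (D.diagonalSubgroup K).subgroupOf F := (mem_normalizer_iff.1 hn s).1 hsT
  -- `n s n⁻¹ = z t`
  have e0 : v * (n * s * n⁻¹) * v⁻¹ = z * t := by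
    rw [hz]
    group
  have e1 : z * t * (n * s * n⁻¹)⁻¹ = 1 := by
    refine UC.eq_one_of_mem ?_ (mul_mem (mul_mem hzT htT) (inv_mem hnT))
    rw [← e0]
    have e2 : v * (n * s * n⁻¹) * v⁻¹ * (n * s * n⁻¹)⁻¹ = v * ((n * s * n⁻¹) * v⁻¹ * (n * s * n⁻¹)⁻¹) := by group
    rw [e2]
    exact mul_mem hv (UC.conj_mem_U (UC.TM hnT) (inv_mem hv))
  have e2 : n * s * n⁻¹ = z * t := (mul_inv_eq_one.1 e1).symm
  have hnN : (n : GL D.Idx K) ∈ normalizer (D.diagonalSubgroup K : Set (GL D.Idx K)) := (mem_norm_sub h.tor).1 hn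
  obtain ⟨k, hk⟩ : ∃ k : ↥(D.monomialSubgroup K), (k : GL D.Idx K) = n :=
    ⟨⟨n, H3.OT.mem_monomial_of_norm hD (by rw [Nat.card_eq_fintype_card]; omega) (h.le n.2) hnN⟩, rfl⟩
  have hwS : ∀ r : Fin D.nroots, (r : ℕ) ∈ SF D K F → ((permHom hD K k r : Fin D.nroots) : ℕ) ∈ SF D K F :=
    fun r hr => perm_SF hD (by rw [hk]; exact n.2) hr
  refine ⟨permHom hD K k, fun r s => H3.OT.pr_perm hD k r s, hwS, fun r hr => ?_⟩
  have h2 := H3.OT.chi_perm hD k (mem_subgroupOf.1 hsT) r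
  have e3 : (k : GL D.Idx K) * (s : GL D.Idx K) * (k : GL D.Idx K)⁻¹ = (z : GL D.Idx K) * t := by
    rw [hk]
    exact congrArg Subtype.val e2
  rw [e3, chi_mul hD (mem_subgroupOf.1 hzT) (mem_subgroupOf.1 htT),
    chi_of_mem_center hD hc (mem_subgroupOf.1 hzT) (hwS r hr), one_mul] at h2
  change chi D K (hG hD a (-1 : K)) _ = chi D K (hG hD a' (-1 : K)) r at h2
  rw [chi_hG hD ha (Fin.is_lt _) hne, chi_hG hD ha' r.2 hne] at h2
  exact neg_one_zpow_iff h1 h2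

variable [Fact p.Prime] [CharP K p]

/-- **S2539, part 5 (A).** -/
theorem short_empty (hy : Hyp K p D) (hDD : D = chevF4 ∨ D = chevG2) (h : MinBad D K F)
    (hne : (SF D K F).Nonempty) (hlong : ∀ r ∈ SF D K F, ¬ IsLong D r)
    (hanti : ∀ r ∈ SF D K F, D.neg r ∉ SF D K F) : False := by
  have hD := hy.inList
  have hp : p ≠ 2 := hy.ne2 (by rcases hDD with rfl | rfl <;> simp)
  have h1 : (-1 : K) ≠ 1 := by
    intro e
    have h2 : ((2 : ℕ) : K) = 0 := by push_cast; linear_combination -e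
    rw [CharP.cast_eq_zero_iff K p] at h2
    exact hp ((Nat.prime_dvd_prime_iff_eq Fact.out Nat.prime_two).1 h2)
  have UC := uctx hy hp h hne hanti
  have hsh : H460.OT.Short.Sh D (SF D K F) := ⟨fun r hr => hr.1, H650.OT.SF_closed hy h.le, hlong⟩
  have hbad : ∀ f b : F, UCtx.Bad ((D.diagonalSubgroup K).subgroupOf F) ((MF D K F).subgroupOf F) f b →
      b ∈ normalizer (((D.diagonalSubgroup K).subgroupOf F : Subgroup F) : Set F) → False :=
    fun f b hb hbN => no_bad hy hDD h hne hanti hsh UC hb hbN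
  have hSP := SF_le_Psi hy h
  -- two non-central `h_a(-1)`, `h_{a'}(-1)` with different patterns are enough
  have key : ∀ a < D.nroots, ∀ a' < D.nroots, (∃ x ∈ Psi D K F, Odd (pr D a x)) → (∃ x ∈ Psi D K F, Odd (pr D a' x)) →
      (∀ w : Equiv.Perm (Fin D.nroots), (∀ r s : Fin D.nroots, pr D (w r) (w s) = pr D r s) →
        (∀ r : Fin D.nroots, (r : ℕ) ∈ SF D K F → ((w r : Fin D.nroots) : ℕ) ∈ SF D K F) →
        ∃ r : Fin D.nroots, (r : ℕ) ∈ SF D K F ∧ ¬ (Even (pr D a (w r)) ↔ Even (pr D a' r))) → False := by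
    intro a ha a' ha' ⟨x, hx, hx'⟩ ⟨y, hy', hy''⟩ hw
    refine UC.false_of_two hbad (hm_mem hD h ha') (hm_not_center hD h h1 ha' hy' hy'') (hm_sq hD h ha')
      (hm_mem hD h ha) (hm_not_center hD h h1 ha hx hx') (hm_sq hD h ha) fun m hm' hc => ?_
    obtain ⟨w, hw1, hw2, hw3⟩ := exists_perm hy h h1 UC ha ha' hm' hc
    obtain ⟨r, hr, hr'⟩ := hw w hw1 hw2
    exact hr' (hw3 r hr)
  by_cases hsing : ∃ s, SF D K F = {s}
  · obtain ⟨r, hS⟩ := hsing
    have hr : r ∈ SF D K F := by rw [hS]; exact Set.mem_singleton r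
    obtain ⟨b, hb, hb1, hb2, hb3⟩ := exists_psi hy h UC hr (hanti r hr)
    obtain ⟨a, ha, hae, hao⟩ := H460.OT.Short.sep_single hDD hr.1 hb.1 (hlong r hr) hb1 hb2 hb3
    obtain ⟨a', ha', hao'⟩ := H460.OT.Short.odd_single hDD hr.1
    refine key a ha a' ha' ⟨b, hb, hao⟩ ⟨r, hSP hr, hao'⟩ fun w _ hwS => ⟨⟨r, hr.1⟩, hr, fun h2 => ?_⟩
    have h3 := hwS ⟨r, hr.1⟩ hr
    rw [hS, Set.mem_singleton_iff] at h3
    rw [h3] at h2
    exact (Int.not_even_iff_odd.2 hao') (h2.1 hae)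
  · have hex : ∃ r ∈ SF D K F, ∃ s ∈ SF D K F, r ≠ s := by
      obtain ⟨r, hr⟩ := hne
      by_contra hcon
      push Not at hcon
      exact hsing ⟨r, Set.eq_singleton_iff_unique_mem.2 ⟨hr, fun s hs => (hcon r hr s hs).symm⟩⟩
    obtain ⟨r, hr, s, hs, hrs⟩ := hex
    have hF4 : D = chevF4 := by
      rcases H460.OT.Short.anti_cases hDD hsh hanti hne with h2 | h2 | h2 | h2
      · exact absurd h2 hsing
      · exact h2.1
      · exact h2.1
      · exact h2.1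
    subst hF4
    obtain ⟨a, ha, ⟨x, hx, hxo⟩, a', ha', ⟨y, hy', hyo⟩, hf⟩ :=
      H460.OT.Short.two_signs' hsh hanti hr hs hrs
    refine key a ha a' ha' ⟨x, hSP hx, hxo⟩ ⟨y, hSP hy', hyo⟩ fun w hw hwS => ?_
    classical
    let f : ℕ → ℕ := fun x => if hx : x < chevF4.nroots then (w ⟨x, hx⟩ : ℕ) else x
    have hfe : ∀ x (hx : x < chevF4.nroots), f x = (w ⟨x, hx⟩ : ℕ) := fun x hx => dif_pos hx
    obtain ⟨u, hu, hu'⟩ := hf f (fun x hx => by rw [hfe x hx.1]; exact hwS ⟨x, hx.1⟩ hx)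
      (fun x hx y hy e => by
        rw [hfe x hx.1, hfe y hy.1] at e
        have e1 := w.injective (Fin.ext e)
        exact congrArg Fin.val e1)
      (fun x hx y hy => by
        rw [hfe x hx.1, hfe y hy.1]
        exact hw ⟨x, hx.1⟩ ⟨y, hy.1⟩)
    refine ⟨⟨u, hu.1⟩, hu, fun h2 => hu' ?_⟩
    rw [hfe u hu.1]
    exact h2

end Cfsg.Agent.H876.OT.Short
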